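/-
Checker for derivations of facts `g • x = y` in a group action from relators (coset enumeration certificates).
A fact is a triple `(a, g, b)`, read as: the letter `g` sends node `a` to node `b`. Letter 7 is the identity.
Main results: `valid_of_chunks`, `orbit_subset`, `card_le`.
-/
import Mathlib
import Cfsg.Agent.EqLemmas

set_option autoImplicit false

namespace Cfsg.Agent.JankoUnique

/-- Certificate data: packed facts (lanes of 32 bits), packed parents, inverse letters, relators. -/
structure Cert where
  facts : ℕ
  par : ℕ
  inv : ℕ
  rels : List (List ℕ)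
  subs : List ℕ

namespace Cert

variable (D : Cert)

def lane (V i : ℕ) : ℕ := (V >>> (i * 32)) % 4294967296
def src (f : ℕ) : ℕ := f % 4096
def letter (f : ℕ) : ℕ := f / 4096 % 16
def dst (f : ℕ) : ℕ := f / 65536
def fact (i : ℕ) : ℕ := lane D.facts i
def parNode (b : ℕ) : ℕ := lane D.par b % 4096
def parLetter (b : ℕ) : ℕ := lane D.par b / 4096
def invl (g : ℕ) : ℕ := bif Nat.blt g 8 then (D.inv >>> (g * 4)) % 16 else g

def consLetter (g : ℕ) (u : List ℕ) : List ℕ := bif Nat.beq g 7 then u else g :: u

/-- Follows a path of facts with index below `n`; returns the end and the word read. -/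
def follow (n : ℕ) : List ℕ → ℕ → Option (ℕ × List ℕ)
  | [], c => some (c, [])
  | q :: qs, c =>
    bif Nat.blt (q / 2) n then
      bif Nat.beq (q % 2) 1 then
        bif Nat.beq (src (D.fact (q / 2))) c then
          (follow n qs (dst (D.fact (q / 2)))).map fun p => (p.1, consLetter (letter (D.fact (q / 2))) p.2)
        else none
      else
        bif Nat.beq (dst (D.fact (q / 2))) c then
          (follow n qs (src (D.fact (q / 2)))).map fun p => (p.1, consLetter (D.invl (letter (D.fact (q / 2)))) p.2)
        else none
    else none

/-- One step: a definition, a subgroup fact, or a closed relator loop. -/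
def step (n : ℕ) : List ℕ → Bool
  | [] =>
    (Nat.beq (D.parNode (dst (D.fact n))) (src (D.fact n)) &&
      (Nat.beq (D.parLetter (dst (D.fact n))) (letter (D.fact n)) &&
        Nat.blt (src (D.fact n)) (dst (D.fact n)))) ||
    (Nat.beq (src (D.fact n)) 0 && (Nat.beq (dst (D.fact n)) 0 && D.subs.contains (letter (D.fact n))))
  | code :: path =>
    match D.follow n path (dst (D.fact n)) with
    | none => false
    | some (e, u) => Nat.beq e (src (D.fact n)) &&
        decide ((D.rels.getD (code / 256) []).drop (code % 256) ++ (D.rels.getD (code / 256) []).take (code % 256)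
          = u ++ consLetter (letter (D.fact n)) [])

def steps : ℕ → List (List ℕ) → Bool
  | _, [] => true
  | n, s :: ss => D.step n s && steps (n + 1) ss

variable {K X : Type*} [Group K] [MulAction K X] (el : ℕ → K) (p : X)

/-- The action of a word, read from left to right. -/
def act : List ℕ → X → X
  | [], x => x
  | a :: v, x => act v (el a • x)

theorem act_append : ∀ (u v : List ℕ) (x : X), act el (u ++ v) x = act el v (act el u x)
  | [], _, _ => rfl
  | a :: u, v, x => act_append u v (el a • x)

theorem act_injective : ∀ u : List ℕ, Function.Injective (fun x : X => act el u x)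
  | [] => fun _ _ h => h
  | a :: u => fun _ _ h => MulAction.injective (el a) (act_injective u h)

theorem act_rotate {u v : List ℕ} (h : ∀ x : X, act el (u ++ v) x = x) (x : X) : act el (v ++ u) x = x := by
  apply act_injective el v
  show act el v (act el (v ++ u) x) = act el v x
  rw [act_append, ← act_append el u v, h]

theorem act_consLetter (h7 : el 7 = 1) (g : ℕ) (u : List ℕ) (x : X) :
    act el (consLetter g u) x = act el u (el g • x) := by
  unfold consLetter
  cases hg : Nat.beq g 7 with
  | true => rw [Nat.eq_of_beq_eq_true hg, h7, one_smul]; rfl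
  | false => rfl

/-- The points attached to the nodes. -/
def node (b : ℕ) : X :=
  if _h : D.parNode b < b then el (D.parLetter b) • node (D.parNode b) else p
termination_by b

theorem node_zero : D.node el p 0 = p := by
  rw [node, dif_neg (Nat.not_lt_zero _)]

theorem node_succ {b : ℕ} (h : D.parNode b < b) :
    D.node el p b = el (D.parLetter b) • D.node el p (D.parNode b) := by
  rw [node, dif_pos h]

/-- A true fact. -/
def Holds (f : ℕ) : Prop := el (letter f) • D.node el p (src f) = D.node el p (dst f)

/-- The hypotheses on the action. -/
structure Model : Prop where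
  el7 : el 7 = 1
  inv : ∀ g, g < 8 → el (D.invl g) * el g = 1
  rels : ∀ w ∈ D.rels, ∀ x : X, act el w x = x
  subs : ∀ g ∈ D.subs, el g • p = p
  dflt : ∀ g, 8 ≤ g → el g = 1

variable {D el p}

theorem inv_smul (M : D.Model el p) (g : ℕ) (x : X) : el (D.invl g) • el g • x = x := by
  rcases lt_or_ge g 8 with h | h
  · rw [smul_smul, M.inv g h, one_smul]
  · have hb : D.invl g = g := by
      have : Nat.blt g 8 = false := by
        cases hg : Nat.blt g 8 with
        | false => rfl
        | true => simp at hg; omega
      rw [invl, this]; rfl
    rw [hb, M.dflt g h, one_smul, one_smul]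

theorem follow_sound (M : D.Model el p) {n : ℕ} (hv : ∀ i < n, D.Holds el p (D.fact i)) :
    ∀ (qs : List ℕ) (c e : ℕ) (u : List ℕ), D.follow n qs c = some (e, u) →
      act el u (D.node el p c) = D.node el p e
  | [], c, e, u, h => by
    simp only [follow, Option.some.injEq, Prod.mk.injEq] at h
    obtain ⟨rfl, rfl⟩ := h
    rfl
  | q :: qs, c, e, u, h => by
    rw [follow] at h
    cases h1 : Nat.blt (q / 2) n with
    | false => rw [h1] at h; simp at h
    | true =>
      rw [h1] at h
      simp only [cond_true] at h
      have hf := hv _ (by simpa using h1)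
      unfold Holds at hf
      cases h2 : Nat.beq (q % 2) 1 with
      | true =>
        rw [h2] at h
        simp only [cond_true] at h
        cases h3 : Nat.beq (src (D.fact (q / 2))) c with
        | false => rw [h3] at h; simp at h
        | true =>
          rw [h3] at h
          simp only [cond_true, Option.map_eq_some_iff] at h
          obtain ⟨⟨e', u'⟩, h4, h5⟩ := h
          simp only [Prod.mk.injEq] at h5
          obtain ⟨rfl, rfl⟩ := h5
          rw [act_consLetter el M.el7, ← Nat.eq_of_beq_eq_true h3, hf]
          exact follow_sound M hv qs _ _ _ h4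
      | false =>
        rw [h2] at h
        simp only [cond_false] at h
        cases h3 : Nat.beq (dst (D.fact (q / 2))) c with
        | false => rw [h3] at h; simp at h
        | true =>
          rw [h3] at h
          simp only [cond_true, Option.map_eq_some_iff] at h
          obtain ⟨⟨e', u'⟩, h4, h5⟩ := h
          simp only [Prod.mk.injEq] at h5
          obtain ⟨rfl, rfl⟩ := h5
          rw [act_consLetter el M.el7, ← Nat.eq_of_beq_eq_true h3, ← hf, inv_smul M]
          exact follow_sound M hv qs _ _ _ h4

theorem step_sound (M : D.Model el p) {n : ℕ} (hv : ∀ i < n, D.Holds el p (D.fact i)) :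
    ∀ s : List ℕ, D.step n s = true → D.Holds el p (D.fact n)
  | [], h => by
    simp only [step, Bool.or_eq_true, Bool.and_eq_true, Nat.blt_eq, List.contains_iff_mem] at h
    unfold Holds
    rcases h with ⟨h1, h2, h3⟩ | ⟨h1, h2, h3⟩
    · have h1' := Nat.eq_of_beq_eq_true h1
      have h2' := Nat.eq_of_beq_eq_true h2
      rw [node_succ D el p (b := dst (D.fact n)) (by omega), h1', h2']
    · rw [Nat.eq_of_beq_eq_true h1, Nat.eq_of_beq_eq_true h2, node_zero]
      exact M.subs _ h3
  | code :: path, h => by
    rw [step] at h
    cases hf : D.follow n path (dst (D.fact n)) with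
    | none => rw [hf] at h; simp at h
    | some q =>
      obtain ⟨e, u⟩ := q
      rw [hf] at h
      simp only [Bool.and_eq_true, decide_eq_true_eq] at h
      have h1 := follow_sound M hv _ _ _ _ hf
      rw [Nat.eq_of_beq_eq_true h.1] at h1
      have hr : ∀ x : X, act el (D.rels.getD (code / 256) []) x = x := by
        intro x
        rcases lt_or_ge (code / 256) D.rels.length with hlt | hge
        · rw [List.getD_eq_getElem?_getD, List.getElem?_eq_getElem hlt, Option.getD_some]
          exact M.rels _ (List.getElem_mem hlt) x
        · rw [List.getD_eq_getElem?_getD, List.getElem?_eq_none hge]; rfl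
      have hloop : ∀ x : X, act el (u ++ consLetter (letter (D.fact n)) []) x = x := by
        intro x
        rw [← h.2]
        refine act_rotate el (fun y => ?_) x
        rw [List.take_append_drop]
        exact hr y
      have h2 := hloop (D.node el p (dst (D.fact n)))
      rw [act_append, h1, act_consLetter el M.el7] at h2
      exact h2

/-- Steps checked from position `n` extend validity. -/
theorem steps_sound (M : D.Model el p) : ∀ (ss : List (List ℕ)) (n : ℕ), D.steps n ss = true →
    (∀ i < n, D.Holds el p (D.fact i)) → ∀ i < n + ss.length, D.Holds el p (D.fact i)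
  | [], n, _, hv, i, hi => hv i (by simpa using hi)
  | s :: ss, n, h, hv, i, hi => by
    simp only [steps, Bool.and_eq_true] at h
    refine steps_sound M ss (n + 1) h.2 (fun j hj => ?_) i (by simp only [List.length_cons] at hi; omega)
    rcases Nat.lt_succ_iff_lt_or_eq.mp hj with h' | rfl
    · exact hv j h'
    · exact step_sound M hv s h.1

/-- The image of `(c, g)` read off from a fact. -/
def edgeImg (D : Cert) (n c g q : ℕ) : Option ℕ :=
  bif Nat.blt (q / 2) n then
    bif Nat.beq (q % 2) 1 then
      bif Nat.beq (src (D.fact (q / 2))) c && Nat.beq (letter (D.fact (q / 2))) g then some (dst (D.fact (q / 2)))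
      else none
    else
      bif Nat.beq (dst (D.fact (q / 2))) c && Nat.beq (D.invl (letter (D.fact (q / 2)))) g then
        some (src (D.fact (q / 2))) else none
  else none

theorem edgeImg_sound (M : D.Model el p) {n c g q d : ℕ} (hv : ∀ i < n, D.Holds el p (D.fact i))
    (h : edgeImg D n c g q = some d) : el g • D.node el p c = D.node el p d := by
  unfold edgeImg at h
  cases h1 : Nat.blt (q / 2) n with
  | false => rw [h1] at h; simp at h
  | true =>
    rw [h1] at h
    simp only [cond_true] at h
    have hf := hv _ (by simpa using h1)
    unfold Holds at hf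
    cases h2 : Nat.beq (q % 2) 1 with
    | true =>
      rw [h2] at h
      simp only [cond_true] at h
      cases h3 : (Nat.beq (src (D.fact (q / 2))) c && Nat.beq (letter (D.fact (q / 2))) g) with
      | false => rw [h3] at h; simp at h
      | true =>
        rw [h3] at h
        simp only [cond_true, Option.some.injEq] at h
        simp only [Bool.and_eq_true] at h3
        rw [← h, ← Nat.eq_of_beq_eq_true h3.1, ← Nat.eq_of_beq_eq_true h3.2, hf]
    | false =>
      rw [h2] at h
      simp only [cond_false] at h
      cases h3 : (Nat.beq (dst (D.fact (q / 2))) c && Nat.beq (D.invl (letter (D.fact (q / 2)))) g) with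
      | false => rw [h3] at h; simp at h
      | true =>
        rw [h3] at h
        simp only [cond_true, Option.some.injEq] at h
        simp only [Bool.and_eq_true] at h3
        rw [← h, ← Nat.eq_of_beq_eq_true h3.1, ← Nat.eq_of_beq_eq_true h3.2, ← hf, inv_smul M]

/-- The word `w` is a loop at node `c` through the given facts. -/
def loops (D : Cert) (n : ℕ) : List ℕ → List ℕ → ℕ → ℕ → Bool
  | [], _, c, e => Nat.beq c e
  | g :: w, qs, c, e =>
    match qs with
    | [] => false
    | q :: qs =>
      match edgeImg D n c g q with
      | none => false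
      | some d => loops D n w qs d e

theorem loops_sound (M : D.Model el p) {n : ℕ} (hv : ∀ i < n, D.Holds el p (D.fact i)) :
    ∀ (w qs : List ℕ) (c e : ℕ), loops D n w qs c e = true → act el w (D.node el p c) = D.node el p e
  | [], _, c, e, h => by rw [Nat.eq_of_beq_eq_true (h : Nat.beq c e = true)]; rfl
  | g :: w, [], c, e, h => by simp [loops] at h
  | g :: w, q :: qs, c, e, h => by
    simp only [loops] at h
    cases hq : edgeImg D n c g q with
    | none => rw [hq] at h; simp at h
    | some d =>
      rw [hq] at h
      show act el w (el g • D.node el p c) = _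
      rw [edgeImg_sound M hv hq]
      exact loops_sound M hv w qs d e h

/-- Row `c` of the final table: one fact per letter, images among the first `m` nodes. -/
def rowOK (D : Cert) (n m c : ℕ) : ℕ → List ℕ → Bool
  | _, [] => true
  | g, q :: qs =>
    (match edgeImg D n c g q with
      | none => false
      | some d => Nat.blt d m) && rowOK D n m c (g + 1) qs

/-- Consecutive rows from `c` on. -/
def rowsOK (D : Cert) (n m k : ℕ) : ℕ → List (List ℕ) → Bool
  | _, [] => true
  | c, r :: rs => Nat.beq r.length k && (rowOK D n m c 0 r && rowsOK D n m k (c + 1) rs)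

theorem rowOK_sound (M : D.Model el p) {n m c : ℕ} (hv : ∀ i < n, D.Holds el p (D.fact i)) :
    ∀ (qs : List ℕ) (g : ℕ), rowOK D n m c g qs = true → ∀ h, g ≤ h → h < g + qs.length →
      ∃ d < m, el h • D.node el p c = D.node el p d
  | [], g, _, h, h1, h2 => by simp at h2; omega
  | q :: qs, g, hr, h, h1, h2 => by
    simp only [rowOK, Bool.and_eq_true] at hr
    rcases h1.eq_or_lt with rfl | hlt
    · cases hq : edgeImg D n c g q with
      | none => rw [hq] at hr; simp at hr
      | some d =>
        rw [hq] at hr
        exact ⟨d, by simpa using hr.1, edgeImg_sound M hv hq⟩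
    · exact rowOK_sound M hv qs (g + 1) hr.2 h hlt (by simp only [List.length_cons] at h2; omega)

theorem rowsOK_sound (M : D.Model el p) {n m k : ℕ} (hv : ∀ i < n, D.Holds el p (D.fact i)) :
    ∀ (rs : List (List ℕ)) (c : ℕ), rowsOK D n m k c rs = true → ∀ e, c ≤ e → e < c + rs.length →
      ∀ g < k, ∃ d < m, el g • D.node el p e = D.node el p d
  | [], c, _, e, h1, h2 => by simp at h2; omega
  | r :: rs, c, h, e, h1, h2 => by
    simp only [rowsOK, Bool.and_eq_true] at h
    rcases h1.eq_or_lt with rfl | hlt
    · intro g hg
      exact rowOK_sound M hv r 0 h.2.1 g (Nat.zero_le _) (by rw [Nat.eq_of_beq_eq_true h.1]; omega)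
    · exact rowsOK_sound M hv rs (c + 1) h.2.2 e hlt (by simp only [List.length_cons] at h2; omega)

end Cert

end Cfsg.Agent.JankoUnique
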