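/-
Generated coset enumeration certificate `CoxB` for the uniqueness of the first Janko group.
-/
import Cfsg.Agent.Lib.JankoUnique.Cert

set_option autoImplicit false
set_option maxRecDepth 100000
set_option maxHeartbeats 0

namespace Cfsg.Agent.JankoUnique.CoxB

def relList : List (List ℕ) := [[0, 0], [1, 1], [2, 2], [0, 1, 0, 1, 0, 1, 0, 1, 0, 1], [1, 2, 1, 2, 1, 2], [0, 2, 0, 2], [0, 0], [1, 1], [2, 2], [1, 0, 1, 0, 1, 0, 1, 0, 1, 0], [2, 1, 2, 1, 2, 1], [2, 0, 2, 0], [], [0, 0], [1, 1], [2, 2], [3, 3], [4, 4], [5, 5], [6, 6]]

def cert : Cert where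
  facts := 0x2f10300030202e002f202b002d202c002e102d002d00280027002c002c102b002b002a002a1029002900230026001f0025102800282027002710260026201b002400250025201a0024201900201023002320220022102100212017001e002000202016001c201f001f101e001e20150014201d000d001d001d101c001c001b001b101a001a001900191018001800120017101600160015001510140014000e0010001300132008000f1012001220110011101000102007000c000f000f2006000b100e000e200d000d100c000c2005000a000b000b2004000a200300020009000910080008000700071006000600050005100400040003000310010002100000010000
  par := 0x202e0000202b0000102d000000280000102b0000002a000010290000002300002027000010260000201b0000201a00002019000020220000102100002017000020160000101e000020150000101c0000001b0000101a0000001900001018000000120000101600000015000010140000000e00002008000020110000101000002007000020060000200d0000100c00002005000020040000200300001008000000070000100600000005000010040000000300001001000010000000000000000000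
  inv := 1985229328
  rels := relList
  subs := []

def steps0 : List (List ℕ) := [[], [], [], [], [], [], [], [], [], [777, 2, 1, 5, 7, 9, 11, 13, 15, 17], [], [], [1283, 20, 7, 23], [], [], [], [1029, 22, 9, 27, 29, 31], [], [1283, 26, 11, 35], [], [], [], [1029, 34, 13, 39, 41, 43], [], [1283, 38, 15, 47], [], [], [], [], [], [], [], [], [], [], [777, 28, 36, 44, 59, 61, 63, 65, 67, 69], [1282, 50, 30, 70], [], [], [1028, 69, 73, 53, 75, 77], [], [1283, 74, 55, 81], [], [], [], [1029, 80, 57, 85, 87, 89], [], [], [1283, 92, 63, 95], [], [], [], [1029, 94, 65, 99, 101, 103], [1283, 98, 67, 78], [], [], [], [], [775, 100, 106, 76, 82, 90, 109, 111, 113, 115], [], [], [1282, 118, 102, 116], [], [], [1029, 124, 115, 123, 121, 127]]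

theorem steps0_ok : cert.steps 0 steps0 = true := by decide +kernel

theorem steps0_len : steps0.length = 65 := by decide +kernel

/-- All facts hold. -/
theorem valid {K X : Type*} [Group K] [MulAction K X] {el : ℕ → K} {p : X} (M : cert.Model el p) :
    ∀ i < 65, cert.Holds el p (cert.fact i) := by
  have h0 : ∀ i < 0, cert.Holds el p (cert.fact i) := fun i hi => absurd hi (Nat.not_lt_zero i)
  have h1 : ∀ i < 65, cert.Holds el p (cert.fact i) := fun i hi =>
    Cert.steps_sound M steps0 0 steps0_ok h0 i (by rw [steps0_len]; omega)
  exact h1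

def loopWord : List ℕ := [0, 1, 2, 0, 1, 2, 0, 1, 2, 0, 1, 2, 0, 1, 2, 1, 2, 1, 0, 2, 1, 0, 2, 1, 0, 2, 1, 0, 2, 1, 0, 1]

theorem loop_ok : Cert.loops cert 65 loopWord [1, 5, 21, 24, 32, 30, 70, 68, 78, 107, 101, 103, 119, 121, 127, 129, 124, 115, 117, 103, 105, 97, 92, 60, 58, 42, 40, 48, 46, 17, 19, 2] 0 0 = true := by decide +kernel

/-- The word fixes the base point. -/
theorem loop {K X : Type*} [Group K] [MulAction K X] {el : ℕ → K} {p : X} (M : cert.Model el p) :
    Cert.act el loopWord p = p := by
  have h := Cert.loops_sound M (valid M) _ _ _ _ loop_ok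
  rwa [Cert.node_zero] at h

end Cfsg.Agent.JankoUnique.CoxB
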