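/-
Standard data inside `C₂ × A₅` for the uniqueness of Janko's first group.
-/
import Cfsg.Agent.Lib.JankoOneOrder.Model

set_option autoImplicit false
set_option synthInstance.maxSize 2048
set_option synthInstance.maxHeartbeats 200000

namespace Cfsg.Agent.JankoUnique

open JankoOneOrder

abbrev A5 := alternatingGroup (Fin 5)

def p1 : A5 := ⟨Equiv.swap 0 1 * Equiv.swap 2 3, Equiv.Perm.mem_alternatingGroup.mpr (by decide +kernel)⟩
def p2 : A5 := ⟨Equiv.swap 1 4 * Equiv.swap 2 3, Equiv.Perm.mem_alternatingGroup.mpr (by decide +kernel)⟩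
def p3 : A5 := ⟨Equiv.swap 0 2 * Equiv.swap 1 3, Equiv.Perm.mem_alternatingGroup.mpr (by decide +kernel)⟩
def pv : A5 := ⟨Equiv.swap 1 2 * Equiv.swap 2 3, Equiv.Perm.mem_alternatingGroup.mpr (by decide +kernel)⟩

def gA1 : Mdl := (1, p1)
def gA2 : Mdl := (1, p2)
def gA3 : Mdl := (1, p3)
def gV : Mdl := (1, pv)

/-- The eight elements of the standard Sylow 2-subgroup, indexed by bits. -/
def sv : Fin 8 → Mdl := ![1, m1, gA1, m1 * gA1, gA3, m1 * gA3, gA1 * gA3, m1 * gA1 * gA3]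

/-- Sum in the standard Sylow 2-subgroup. -/
def bx (a b : Fin 8) : Fin 8 := Fin.ofNat 8 (a.val ^^^ b.val)

def fF : Fin 8 → Fin 8 := ![0, 2, 4, 6, 3, 1, 7, 5]
def fV : Fin 8 → Fin 8 := ![0, 1, 4, 5, 6, 7, 2, 3]
def fS : Fin 8 → Fin 8 := ![0, 1, 4, 5, 2, 3, 6, 7]

/-- The automorphism interchanging the first and the third generator. -/
def sigA (m : Mdl) : Mdl :=
  (m.1, ⟨Equiv.swap 1 2 * (m.2 : Equiv.Perm (Fin 5)) * Equiv.swap 1 2, by
    have h : (1 : ℤˣ) = Equiv.Perm.sign (m.2 : Equiv.Perm (Fin 5)) := (Equiv.Perm.mem_alternatingGroup.mp m.2.2).symm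
    rw [Equiv.Perm.mem_alternatingGroup, map_mul, map_mul, Equiv.Perm.sign_swap (by decide), ← h]
    decide⟩)

theorem sigA_mul (a b : Mdl) : sigA (a * b) = sigA a * sigA b := by
  have h : Equiv.swap (1 : Fin 5) 2 * Equiv.swap 1 2 = 1 := Equiv.swap_mul_self _ _
  refine Prod.ext rfl (Subtype.ext ?_)
  show Equiv.swap 1 2 * ((a.2 : Equiv.Perm (Fin 5)) * (b.2 : Equiv.Perm (Fin 5))) * Equiv.swap 1 2 = _
  show _ = Equiv.swap 1 2 * (a.2 : Equiv.Perm (Fin 5)) * Equiv.swap 1 2 *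
    (Equiv.swap 1 2 * (b.2 : Equiv.Perm (Fin 5)) * Equiv.swap 1 2)
  simp only [mul_assoc]
  rw [← mul_assoc (Equiv.swap (1 : Fin 5) 2) (Equiv.swap 1 2), h, one_mul]

theorem sigA_sigA (a : Mdl) : sigA (sigA a) = a := by
  have h : Equiv.swap (1 : Fin 5) 2 * Equiv.swap 1 2 = 1 := Equiv.swap_mul_self _ _
  refine Prod.ext rfl (Subtype.ext ?_)
  show Equiv.swap 1 2 * (Equiv.swap 1 2 * (a.2 : Equiv.Perm (Fin 5)) * Equiv.swap 1 2) * Equiv.swap 1 2 = _
  simp only [mul_assoc]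
  rw [h, mul_one, ← mul_assoc, h, one_mul]

/-- The automorphism as an equivalence. -/
def sigE : Mdl ≃* Mdl where
  toFun := sigA
  invFun := sigA
  left_inv := sigA_sigA
  right_inv := sigA_sigA
  map_mul' := sigA_mul

theorem sv_mul : ∀ a b, sv (bx a b) = sv a * sv b := by decide +kernel
theorem sv_zero : sv 0 = 1 := rfl
theorem sv_one : sv 1 = m1 := rfl
theorem sv_inj : ∀ a b, sv a = sv b → a = b := by decide +kernel
theorem sv_sq : ∀ a, sv a * sv a = 1 := by decide +kernel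
theorem sv_comm : ∀ a b, sv a * sv b = sv b * sv a := by decide +kernel
theorem sv_cent : ∀ m : Mdl, m * gA1 = gA1 * m → m * gA3 = gA3 * m → ∃ a, sv a = m := by decide +kernel
theorem sigA_m1 : sigA m1 = m1 := by decide +kernel
theorem sigA_sv : ∀ a, sigA (sv a) = sv (fS a) := by decide +kernel
theorem gV_sv : ∀ a, gV * sv a * gV⁻¹ = sv (fV a) := by decide +kernel
theorem gV_three : gV ^ 3 = 1 := by decide +kernel

/-- An element normalising the standard subgroup acts like a power of `gV`. -/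
theorem norm_sv : ∀ m : Mdl, (∃ a, sv a = m * gA1 * m⁻¹) → (∃ a, sv a = m * gA3 * m⁻¹) →
    ∃ j : Fin 3, m * gA1 * m⁻¹ = sv (fV^[j.val] 2) ∧ m * gA3 * m⁻¹ = sv (fV^[j.val] 4) := by
  decide +kernel

/-- Inverse of a standard generating set: every element is a word. -/
def gensM : List Mdl := [m1, gA1, gA2, gA3]

theorem bx_self : ∀ a, bx a a = 0 := by decide
theorem bx_zero : ∀ a, bx a 0 = a ∧ bx 0 a = a := by decide

/-- A map determined by the images of `1, 2, 4`. -/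
def lin (x y z : Fin 8) (a : Fin 8) : Fin 8 :=
  bx (bx (if a.val % 2 = 1 then x else 0) (if a.val / 2 % 2 = 1 then y else 0)) (if a.val / 4 = 1 then z else 0)

theorem bits : ∀ a : Fin 8, a = lin 1 2 4 a := by decide

/-- The action of an element of order seven, up to powers and the symmetry. -/
theorem f_cases : ∀ x y z : Fin 8, (lin x y z)^[7] 1 = 1 → (lin x y z)^[7] 2 = 2 → (lin x y z)^[7] 4 = 4 →
    x ≠ 1 →
    (∀ l : Fin 6, ∃ i : Fin 7, ∃ j : Fin 3, ∀ a,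
      fV ((lin x y z)^[l.val + 1] a) = (lin x y z)^[i.val] (fV^[j.val] a)) →
    ∃ e : Fin 6, (∀ a, (lin x y z)^[e.val + 1] a = fF a) ∨ (∀ a, fS ((lin x y z)^[e.val + 1] (fS a)) = fF a) := by
  decide +kernel

theorem fF_facts : (∀ a, fF (bx a 0) = fF a) ∧ (∀ a b, fF (bx a b) = bx (fF a) (fF b)) ∧
    (∀ a, fF a = a → a = 0) ∧ (∀ a, fF^[7] a = a) ∧ (∀ a, fV (fF a) = fF (fF (fV a))) := by decide

theorem fF_trans : ∀ a : Fin 8, a ≠ 0 → ∃ i : Fin 7, fF^[i.val] 1 = a := by decide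

theorem fV_facts : (∀ a b, fV (bx a b) = bx (fV a) (fV b)) := by decide

/-- Pairs standing for `sv a * n ^ i` where `n` acts as `fF`. -/
def qm (a b : Fin 8 × Fin 7) : Fin 8 × Fin 7 := (bx a.1 (fF^[a.2.val] b.1), a.2 + b.2)

def qp (a : Fin 8 × Fin 7) : ℕ → Fin 8 × Fin 7
  | 0 => (0, 0)
  | k + 1 => qm (qp a k) a

/-- Conjugation by `gV` when it maps `n` to `sv s * n ^ 2`. -/
def qa (s : Fin 8) (a : Fin 8 × Fin 7) : Fin 8 × Fin 7 := qm (fV a.1, 0) (qp (s, 2) a.2.val)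

theorem fix_exists : ∀ s, qa s (qa s (qa s (0, 1))) = (0, 1) → ∃ u : Fin 8, qa s (u, 1) = qp (u, 1) 2 := by
  decide +kernel

theorem fix_dom : ∀ s, (qa s (qa s (qa s (0, 1)))).2 = 1 := by decide +kernel

theorem qp_seven : ∀ u : Fin 8, qp (u, 1) 7 = (0, 0) := by decide +kernel

/-- Facts about the product of order five and the generators. -/
theorem y_facts : (gA2 * gA3) ^ 5 = 1 ∧ gA2 * gA3 ≠ 1 ∧ gA3 * (gA2 * gA3) * gA3⁻¹ = (gA2 * gA3)⁻¹ := by
  decide +kernel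

theorem y_cent : ∀ m : Mdl, m * (gA2 * gA3) = gA2 * gA3 * m → (m * m = 1 → m = 1 ∨ m = m1) ∧
    ∃ i : Fin 5, m = (gA2 * gA3) ^ i.val ∨ m = m1 * (gA2 * gA3) ^ i.val := by decide +kernel

theorem invol_count : 8 ≤ Fintype.card {m : Mdl // m * m = 1 ∧ m ≠ 1} := by decide +kernel

end Cfsg.Agent.JankoUnique
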