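/-
An involution centraliser and an element of order seven in normal position, for a group of order 175560
with the local structure of Janko's first group.
-/
import Cfsg.Agent.Lib.JankoUnique.Std
import Cfsg.Agent.Lib.JankoOneOrder.Local

set_option autoImplicit false

namespace Cfsg.Agent.JankoUnique

open Cfsg Subgroup JankoOneOrder

/-- What is used about the group. -/
structure Hyp (G : Type*) [Group G] (t : G) : Prop where
  order : Nat.card G = 175560
  invol : ∀ x : G, x * x = 1 → x ≠ 1 → IsConj t x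
  seven : ∃ (a : G) (P : Subgroup G), Nat.card P = 8 ∧ (∀ x ∈ P, x * x = 1) ∧ a ^ 7 = 1 ∧ a ≠ 1 ∧
    IsConj a (a ^ 2) ∧ ∀ s ∈ P, a * s * a⁻¹ ∈ P
  ord : orderOf t = 2
  model : Nonempty (centralizer ({t} : Set G) ≃* Mdl)

/-- The standard position. -/
structure Basis (G : Type*) [Group G] where
  ψ : Mdl →* G
  n : G
  inj : Function.Injective ψ
  range : ∀ g : G, g * ψ m1 = ψ m1 * g → ∃ m, ψ m = g
  conjn : ∀ a, n * ψ (sv a) * n⁻¹ = ψ (sv (fF a))
  seven : n ^ 7 = 1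
  vrel : ψ gV * n * (ψ gV)⁻¹ = n ^ 2

variable {G : Type*} [Group G] [Finite G] {t : G}

instance : Fact (Nat.Prime 7) := ⟨by norm_num⟩
instance : Fact (Nat.Prime 5) := ⟨by norm_num⟩

theorem Hyp.cent_seven (H : Hyp G t) {s c : G} (hs : s * s = 1) (hs1 : s ≠ 1) (hc : c ^ 7 = 1)
    (hcs : c * s = s * c) : c = 1 := by
  obtain ⟨e⟩ := H.model
  exact seven_no_commute e H.invol hs hs1 hc hcs

omit [Finite G] in
theorem Hyp.fac_two (H : Hyp G t) : (Nat.card G).factorization 2 = 3 := by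
  rw [H.order, Nat.factorization_def _ Nat.prime_two, show (175560 : ℕ) = 2 ^ 3 * 21945 by norm_num,
    padicValNat.mul (by norm_num) (by norm_num), padicValNat.prime_pow,
    padicValNat.eq_zero_of_not_dvd (by norm_num : ¬ 2 ∣ 21945)]

/-- Every subgroup of order eight is a conjugate of the one normalised by an element of order seven. -/
theorem Hyp.eight (H : Hyp G t) {S : Subgroup G} (hS : Nat.card S = 8) :
    (∀ x ∈ S, x * x = 1) ∧ ∃ a : G, a ^ 7 = 1 ∧ a ≠ 1 ∧ ∀ x ∈ S, a * x * a⁻¹ ∈ S := by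
  have : Fact (Nat.Prime 2) := ⟨Nat.prime_two⟩
  obtain ⟨a, P, hP8, hP2, ha7, ha1, -, hanorm⟩ := H.seven
  let P' : Sylow 2 G := Sylow.ofCard P (by rw [H.fac_two, hP8]; norm_num)
  let S' : Sylow 2 G := Sylow.ofCard S (by rw [H.fac_two, hS]; norm_num)
  obtain ⟨g, hg⟩ := MulAction.exists_smul_eq G P' S'
  have hmem : ∀ x, x ∈ S ↔ g⁻¹ * x * g ∈ P := by
    intro x
    have h := congrArg (fun Q : Sylow 2 G => (Q : Subgroup G)) hg
    simp only [Sylow.coe_subgroup_smul] at h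
    change _ = S at h
    rw [← h, mem_pointwise_smul_iff_inv_smul_mem, ← map_inv, MulAut.smul_def, MulAut.conj_apply, inv_inv]
    rfl
  refine ⟨fun x hx => ?_, g * a * g⁻¹, ?_, fun h => ha1 (conj_eq_one_iff.mp h), fun x hx => ?_⟩
  · have h := hP2 _ ((hmem x).mp hx)
    rw [show g⁻¹ * x * g * (g⁻¹ * x * g) = g⁻¹ * (x * x) * g⁻¹⁻¹ by group, conj_eq_one_iff] at h
    exact h
  · rw [conj_pow, ha7]; group
  · rw [hmem]
    have h := hanorm _ ((hmem x).mp hx)
    convert h using 1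
    group

omit [Finite G] in
theorem iter_conj (ψ : Mdl →* G) (n : G) (f : Fin 8 → Fin 8) (h : ∀ a, n * ψ (sv a) * n⁻¹ = ψ (sv (f a))) :
    ∀ (i : ℕ) (a : Fin 8), n ^ i * ψ (sv a) * (n ^ i)⁻¹ = ψ (sv (f^[i] a))
  | 0, a => by simp
  | i + 1, a => by
    rw [Function.iterate_succ_apply', ← h, ← iter_conj ψ n f h i a, pow_succ', mul_inv_rev]
    group

omit [Finite G] in
theorem lin_eq (f : Fin 8 → Fin 8) (h : ∀ a b, f (bx a b) = bx (f a) (f b)) :
    ∀ a, f a = lin (f 1) (f 2) (f 4) a := by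
  have h0 : f 0 = 0 := by
    have := h 0 0
    rwa [bx_self, bx_self] at this
  intro a
  conv_lhs => rw [bits a]
  unfold lin
  rw [h, h]
  split_ifs <;> simp only [h0]

omit [Finite G] in
/-- The map by which an element normalising the standard subgroup acts. -/
theorem exists_act {ψ : Mdl →* G} (hψ : Function.Injective ψ) (n : G)
    (hn : ∀ a, ∃ b, n * ψ (sv a) * n⁻¹ = ψ (sv b)) :
    ∃ f : Fin 8 → Fin 8, (∀ a, n * ψ (sv a) * n⁻¹ = ψ (sv (f a))) ∧ (∀ a b, f (bx a b) = bx (f a) (f b)) := by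
  choose f hf using hn
  refine ⟨f, hf, fun a b => sv_inj _ _ (hψ ?_)⟩
  rw [sv_mul, map_mul, ← hf, ← hf, ← hf, sv_mul, map_mul]
  group

/-- An element of order seven acting as `fF`, in some coordinates. -/
theorem Hyp.exists_pre (H : Hyp G t) :
    ∃ (ψ : Mdl →* G) (n : G), Function.Injective ψ ∧ (∀ g : G, g * ψ m1 = ψ m1 * g → ∃ m, ψ m = g) ∧
      n ^ 7 = 1 ∧ ∀ a, n * ψ (sv a) * n⁻¹ = ψ (sv (fF a)) := by
  classical
  obtain ⟨e⟩ := H.model
  let ψ : Mdl →* G := (centralizer ({t} : Set G)).subtype.comp e.symm.toMonoidHom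
  have hψ : Function.Injective ψ := fun a b h => e.symm.injective (Subtype.ext h)
  have hm1 : ψ m1 = t := by
    show ((e.symm m1 : centralizer ({t} : Set G)) : G) = t
    rw [← e_t H.ord e, e.symm_apply_apply]
  have hrange : ∀ g : G, g * ψ m1 = ψ m1 * g → ∃ m, ψ m = g := fun g hg => by
    rw [hm1] at hg
    exact ⟨e ⟨g, mem_centralizer_singleton_iff.mpr hg⟩, by simp [ψ]⟩
  -- the Sylow subgroup
  let S : Subgroup G :=
    { carrier := Set.range fun a => ψ (sv a)
      one_mem' := ⟨0, by simp [sv_zero]⟩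
      mul_mem' := by
        rintro _ _ ⟨a, rfl⟩ ⟨b, rfl⟩
        exact ⟨bx a b, by simp [sv_mul]⟩
      inv_mem' := by
        rintro _ ⟨a, rfl⟩
        refine ⟨a, (inv_eq_of_mul_eq_one_right ?_).symm⟩
        rw [← map_mul, sv_sq, map_one] }
  have hS : Nat.card S = 8 := by
    show Nat.card ↥(Set.range fun a => ψ (sv a)) = 8
    rw [← Nat.card_congr (Equiv.ofInjective (fun a => ψ (sv a)) fun a b h => sv_inj a b (hψ h)), Nat.card_fin]
  obtain ⟨-, a, ha7, ha1, hanorm⟩ := H.eight hS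
  obtain ⟨f, hf, hadd⟩ := exists_act hψ a fun b => by
    obtain ⟨c, hc⟩ := hanorm _ ⟨b, rfl⟩
    exact ⟨c, hc.symm⟩
  have hit := iter_conj ψ a f hf
  have hlin := lin_eq f hadd
  have h7 : ∀ b, f^[7] b = b := fun b => sv_inj _ _ (hψ (by rw [← hit 7 b, ha7]; group))
  have h1 : f 1 ≠ 1 := by
    intro h
    refine ha1 (H.cent_seven (s := ψ m1) ?_ ?_ ha7 ?_)
    · rw [← map_mul, ← sv_one, sv_sq, map_one]
    · rw [hm1]; intro h; have := H.ord; rw [h, orderOf_one] at this; omega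
    · have := hf 1
      rw [h, sv_one, mul_inv_eq_iff_eq_mul] at this
      exact this
  have hvn : ∀ (j : ℕ) (b : Fin 8), ψ gV ^ j * ψ (sv b) * (ψ gV ^ j)⁻¹ = ψ (sv (fV^[j] b)) :=
    iter_conj ψ (ψ gV) fV fun b => by rw [← map_inv, ← map_mul, ← map_mul, gV_sv]
  have hstab : ∀ l : Fin 6, ∃ i : Fin 7, ∃ j : Fin 3, ∀ b,
      fV ((lin (f 1) (f 2) (f 4))^[l.val + 1] b) = (lin (f 1) (f 2) (f 4))^[i.val] (fV^[j.val] b) := by
    intro l
    have he : lin (f 1) (f 2) (f 4) = f := funext fun b => (hlin b).symm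
    rw [he]
    -- the image of the first involution
    set g0 : G := ψ gV * a ^ (l.val + 1) with hg0
    have hg0a : ∀ b, g0 * ψ (sv b) * g0⁻¹ = ψ (sv (fV (f^[l.val + 1] b))) := fun b => by
      have h2 := hvn 1 (f^[l.val + 1] b)
      rw [pow_one, Function.iterate_one] at h2
      rw [← h2, ← hit, hg0]; group
    set c := fV (f^[l.val + 1] 1)
    have hc0 : c ≠ 0 := by
      intro h
      have h2 := hg0a 1
      rw [show fV (f^[l.val + 1] 1) = 0 from h, sv_zero, map_one, conj_eq_one_iff, ← map_one ψ, sv_one] at h2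
      exact absurd (hψ h2) (by decide +kernel)
    -- some power of the element of order seven has the same image
    obtain ⟨i, hi⟩ : ∃ i : Fin 7, f^[i.val] 1 = c := by
      have hinj : Function.Injective fun i : Fin 7 => f^[i.val] 1 := by
        intro i j hij
        by_contra hne
        wlog hlt : i.val < j.val generalizing i j
        · exact this hij.symm (Ne.symm hne) (lt_of_le_of_ne (not_lt.mp hlt) fun h => hne (Fin.ext h.symm))
        have hinjf : Function.Injective f := fun x y h => by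
          have h2 := congrArg (f^[6]) h
          rw [← Function.iterate_succ_apply, ← Function.iterate_succ_apply, h7, h7] at h2
          exact h2
        have hfix : f^[j.val - i.val] 1 = 1 := by
          refine hinjf.iterate i.val ?_
          rw [← Function.iterate_add_apply, show i.val + (j.val - i.val) = j.val by omega]
          exact hij.symm
        have h2 : (a ^ (j.val - i.val)) * ψ (sv 1) * (a ^ (j.val - i.val))⁻¹ = ψ (sv 1) := by
          rw [hit, hfix]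
        have hone := H.cent_seven (s := ψ (sv 1)) (c := a ^ (j.val - i.val))
          (by rw [← map_mul, sv_sq, map_one])
          (fun h => absurd (hψ (h.trans (map_one ψ).symm)) (by decide +kernel))
          (by rw [← pow_mul, mul_comm, pow_mul, ha7, one_pow]) (mul_inv_eq_iff_eq_mul.mp h2)
        have hd := orderOf_dvd_of_pow_eq_one hone
        rw [orderOf_eq_prime ha7 ha1] at hd
        have hjlt := j.isLt
        have := Nat.le_of_dvd (by omega) hd
        omega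
      have h7c : Finset.card (Finset.univ.image fun i : Fin 7 => f^[i.val] 1) = 7 := by
        rw [Finset.card_image_of_injective _ hinj]; rfl
      have hsub : (Finset.univ.image fun i : Fin 7 => f^[i.val] 1) = Finset.univ.filter (· ≠ 0) := by
        refine Finset.eq_of_subset_of_card_le (fun x hx => ?_) (by rw [h7c]; decide)
        obtain ⟨i, -, rfl⟩ := Finset.mem_image.mp hx
        simp only [Finset.mem_filter, Finset.mem_univ, true_and]
        intro h
        have h2 := hit i.val 1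
        rw [h, sv_zero, map_one, conj_eq_one_iff, ← map_one ψ] at h2
        exact absurd (hψ h2) (by decide +kernel)
      have : c ∈ Finset.univ.image fun i : Fin 7 => f^[i.val] 1 := by
        rw [hsub]; simp [hc0]
      obtain ⟨i, -, hi⟩ := Finset.mem_image.mp this
      exact ⟨i, hi⟩
    set g1 : G := (a ^ i.val)⁻¹ * g0 with hg1
    have hg1a : ∀ b, g1 * ψ (sv b) * g1⁻¹ ∈ S := fun b => by
      have hI : ∀ d, (a ^ i.val)⁻¹ * ψ (sv d) * (a ^ i.val) = ψ (sv (f^[7 - i.val] d)) := fun d => by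
        rw [← hit]
        have h8 : a ^ i.val * a ^ (7 - i.val) = 1 := by
          rw [← pow_add, show i.val + (7 - i.val) = 7 by omega, ha7]
        rw [inv_eq_of_mul_eq_one_right h8]
        congr 1
        exact (inv_eq_of_mul_eq_one_left h8).symm
      refine ⟨f^[7 - i.val] (fV (f^[l.val + 1] b)), ?_⟩
      show ψ (sv _) = _
      rw [← hI, ← hg0a, hg1]; group
    have hfixz : g1 * ψ m1 * g1⁻¹ = ψ m1 := by
      rw [← sv_one, hg1]
      calc (a ^ i.val)⁻¹ * g0 * ψ (sv 1) * ((a ^ i.val)⁻¹ * g0)⁻¹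
          = (a ^ i.val)⁻¹ * (g0 * ψ (sv 1) * g0⁻¹) * a ^ i.val := by group
        _ = (a ^ i.val)⁻¹ * ψ (sv c) * a ^ i.val := by rw [hg0a]
        _ = ψ (sv 1) := by rw [← hi, ← hit]; group
    obtain ⟨m, hm⟩ := hrange g1 (mul_inv_eq_iff_eq_mul.mp hfixz)
    have hmS : ∀ b, ∃ d, sv d = m * sv b * m⁻¹ := fun b => by
      obtain ⟨d, hd⟩ := hg1a b
      refine ⟨d, hψ ?_⟩
      rw [map_mul, map_mul, map_inv, hm]
      exact hd
    obtain ⟨j, hj1, hj3⟩ := norm_sv m (hmS 2) (hmS 4)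
    refine ⟨i, j, fun b => sv_inj _ _ (hψ ?_)⟩
    have hmj : ∀ d, g1 * ψ (sv d) * g1⁻¹ = ψ (sv (fV^[j.val] d)) := by
      have e2 : g1 * ψ (sv 2) * g1⁻¹ = ψ (sv (fV^[j.val] 2)) := by
        rw [← hm, ← map_inv, ← map_mul, ← map_mul]; exact congrArg ψ hj1
      have e4 : g1 * ψ (sv 4) * g1⁻¹ = ψ (sv (fV^[j.val] 4)) := by
        rw [← hm, ← map_inv, ← map_mul, ← map_mul]; exact congrArg ψ hj3
      have e1 : g1 * ψ (sv 1) * g1⁻¹ = ψ (sv (fV^[j.val] 1)) := by
        rw [sv_one, hfixz, show fV^[j.val] 1 = 1 from Function.iterate_fixed (by decide) _, sv_one]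
      have e0 : g1 * ψ (sv 0) * g1⁻¹ = ψ (sv (fV^[j.val] 0)) := by
        rw [show fV^[j.val] 0 = 0 from Function.iterate_fixed (by decide) _, sv_zero, map_one]; group
      intro d
      obtain ⟨F, hF, hFadd⟩ := exists_act hψ g1 fun x => by
        obtain ⟨c, hc⟩ := hg1a x
        exact ⟨c, hc.symm⟩
      have hFV : ∀ k : Fin 3, ∀ x y, fV^[k.val] (bx x y) = bx (fV^[k.val] x) (fV^[k.val] y) := by decide
      have hz : ∀ x, g1 * ψ (sv x) * g1⁻¹ = ψ (sv (fV^[j.val] x)) → F x = fV^[j.val] x := fun x hx =>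
        sv_inj _ _ (hψ ((hF x).symm.trans hx))
      rw [hF, lin_eq F hFadd d, lin_eq _ (hFV j) d, hz 1 e1, hz 2 e2, hz 4 e4]
    rw [← hit, ← hmj, ← hg0a, hg1]; group
  -- powers and the symmetry
  have hf7 : ∀ b, (lin (f 1) (f 2) (f 4))^[7] b = b := by
    rw [show lin (f 1) (f 2) (f 4) = f from funext fun b => (hlin b).symm]; exact h7
  obtain ⟨e', he'⟩ := f_cases (f 1) (f 2) (f 4) (hf7 1) (hf7 2) (hf7 4) h1 hstab
  rw [show lin (f 1) (f 2) (f 4) = f from funext fun b => (hlin b).symm] at he'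
  have hpow : (a ^ (e'.val + 1)) ^ 7 = 1 := by rw [← pow_mul, mul_comm, pow_mul, ha7, one_pow]
  rcases he' with he' | he'
  · exact ⟨ψ, a ^ (e'.val + 1), hψ, hrange, hpow, fun b => by rw [hit, he']⟩
  · refine ⟨ψ.comp sigE.toMonoidHom, a ^ (e'.val + 1), hψ.comp sigE.injective, fun g hg => ?_, hpow,
      fun b => ?_⟩
    · have : ψ (sigA m1) = ψ m1 := by rw [sigA_m1]
      obtain ⟨m, hm⟩ := hrange g (by rw [← this]; exact hg)
      exact ⟨sigA m, by show ψ (sigA (sigA m)) = g; rw [sigA_sigA, hm]⟩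
    · show _ * ψ (sigA (sv b)) * _ = ψ (sigA (sv _))
      rw [sigA_sv, sigA_sv, hit, ← he']
      have hSS : ∀ x, fS (fS x) = x := by decide
      rw [hSS]

omit [Finite G] in
/-- Products of pairs. -/
theorem qm_eval {ψ : Mdl →* G} {n : G} (h7 : n ^ 7 = 1)
    (hn : ∀ a, n * ψ (sv a) * n⁻¹ = ψ (sv (fF a))) (a b : Fin 8 × Fin 7) :
    ψ (sv a.1) * n ^ a.2.val * (ψ (sv b.1) * n ^ b.2.val) = ψ (sv (qm a b).1) * n ^ (qm a b).2.val := by
  show _ = ψ (sv (bx a.1 (fF^[a.2.val] b.1))) * n ^ (a.2 + b.2).val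
  rw [sv_mul, map_mul, ← iter_conj ψ n fF hn, Fin.val_add, ← pow_eq_pow_mod _ h7, pow_add]
  group

omit [Finite G] in
theorem qp_eval {ψ : Mdl →* G} {n : G} (h7 : n ^ 7 = 1)
    (hn : ∀ a, n * ψ (sv a) * n⁻¹ = ψ (sv (fF a))) (a : Fin 8 × Fin 7) :
    ∀ k, (ψ (sv a.1) * n ^ a.2.val) ^ k = ψ (sv (qp a k).1) * n ^ (qp a k).2.val
  | 0 => by simp [qp, sv_zero]
  | k + 1 => by rw [pow_succ, qp_eval h7 hn a k, qm_eval h7 hn]; rfl

theorem Hyp.exists_basis (H : Hyp G t) : Nonempty (Basis G) := by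
  obtain ⟨ψ, n, hψ, hrange, h7, hn⟩ := H.exists_pre
  have hvn : ∀ b, ψ gV * ψ (sv b) * (ψ gV)⁻¹ = ψ (sv (fV b)) := fun b => by
    rw [← map_inv, ← map_mul, ← map_mul, gV_sv]
  -- the image of `n` under conjugation by `gV`
  obtain ⟨s, hs⟩ : ∃ s, ψ gV * n * (ψ gV)⁻¹ = ψ (sv s) * n ^ 2 := by
    set c : G := ψ gV * n * (ψ gV)⁻¹ * (n ^ 2)⁻¹ with hc
    have hfix : ∀ b, c * ψ (sv b) * c⁻¹ = ψ (sv b) := by
      intro b
      have hVi : ∀ d, (ψ gV)⁻¹ * ψ (sv d) * ψ gV = ψ (sv (fV^[2] d)) := fun d => by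
        have h := iter_conj ψ (ψ gV) fV hvn 2 d
        have h3 : (ψ gV)⁻¹ = ψ gV ^ 2 := by
          rw [inv_eq_iff_mul_eq_one, ← pow_succ', ← map_pow, gV_three, map_one]
        rw [← h, ← h3, inv_inv]
      have hni : (n ^ 2)⁻¹ * ψ (sv b) * n ^ 2 = ψ (sv (fF^[5] b)) := by
        have h := iter_conj ψ n fF hn 5 b
        have h5 : (n ^ 2)⁻¹ = n ^ 5 := by rw [inv_eq_iff_mul_eq_one, ← pow_add, h7]
        rw [← h, ← h5, inv_inv]
      have hid : ∀ d, fV (fF (fV^[2] (fF^[5] d))) = d := by decide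
      calc c * ψ (sv b) * c⁻¹ = ψ gV * (n * ((ψ gV)⁻¹ * ((n ^ 2)⁻¹ * ψ (sv b) * n ^ 2) * ψ gV) * n⁻¹) *
            (ψ gV)⁻¹ := by rw [hc]; group
        _ = ψ (sv b) := by rw [hni, hVi, hn, hvn, hid]
    obtain ⟨m, hm⟩ := hrange c (by rw [← sv_one]; exact mul_inv_eq_iff_eq_mul.mp (hfix 1))
    have hcm : ∀ b, m * sv b = sv b * m := fun b => hψ (by
      rw [map_mul, map_mul, hm]; exact mul_inv_eq_iff_eq_mul.mp (hfix b))
    obtain ⟨s, hs⟩ := sv_cent m (hcm 2) (hcm 4)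
    exact ⟨s, by rw [hs, hm, hc]; group⟩
  let ι : Fin 8 × Fin 7 → G := fun a => ψ (sv a.1) * n ^ a.2.val
  have hqa : ∀ a, ψ gV * ι a * (ψ gV)⁻¹ = ι (qa s a) := by
    intro a
    show _ = ι (qm (fV a.1, 0) (qp (s, 2) a.2.val))
    simp only [ι]
    rw [← qm_eval h7 hn, ← qp_eval h7 hn, ← hvn, show (((2 : Fin 7)).val) = 2 from rfl, ← hs, conj_pow]
    simp only [Fin.val_zero, pow_zero, mul_one]
    group
  have h31 : ι (qa s (qa s (qa s (0, 1)))) = n := by
    rw [← hqa, ← hqa, ← hqa]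
    have h3 : ψ gV * ψ gV * ψ gV = 1 := by rw [← map_mul, ← map_mul, ← pow_two, ← pow_succ, gV_three, map_one]
    show ψ gV * (ψ gV * (ψ gV * (ψ (sv 0) * n ^ 1) * (ψ gV)⁻¹) * (ψ gV)⁻¹) * (ψ gV)⁻¹ = n
    calc _ = (ψ gV * ψ gV * ψ gV) * n * (ψ gV * ψ gV * ψ gV)⁻¹ := by rw [sv_zero, map_one]; group
      _ = n := by rw [h3]; group
  have hqq : qa s (qa s (qa s (0, 1))) = (0, 1) := by
    set q := qa s (qa s (qa s (0, 1))) with hq
    have h2 : q.2 = 1 := fix_dom s
    refine Prod.ext (sv_inj _ _ (hψ ?_)) h2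
    have h31' : ψ (sv q.1) * n ^ q.2.val = n := h31
    rw [h2, show ((1 : Fin 7)).val = 1 from rfl, pow_one, mul_eq_right] at h31'
    rw [h31', sv_zero, map_one]
  obtain ⟨u, hu⟩ := fix_exists s hqq
  refine ⟨⟨ψ, ψ (sv u) * n, hψ, hrange, fun a => ?_, ?_, ?_⟩⟩
  · calc _ = ψ (sv u) * (n * ψ (sv a) * n⁻¹) * (ψ (sv u))⁻¹ := by group
      _ = ψ (sv (fF a)) := by rw [hn, ← map_inv, ← map_mul, ← map_mul, sv_comm, mul_inv_cancel_right]
  · have h := qp_eval h7 hn (u, 1) 7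
    rw [qp_seven] at h
    simpa [sv_zero] using h
  · have h := hqa (u, 1)
    have h2 := qp_eval h7 hn (u, 1) 2
    rw [hu] at h
    simp only [ι] at h
    rw [← h2] at h
    simpa using h

end Cfsg.Agent.JankoUnique
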