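/-
Words in the standard generators of `C₂ × A₅`.
-/
import Cfsg.Agent.Lib.JankoUnique.Std

set_option autoImplicit false
set_option maxRecDepth 20000

namespace Cfsg.Agent.JankoUnique

open JankoOneOrder

/-- A word for each element of the model. -/
def stdWords : List (List ℕ) := [[], [0], [1], [2], [3], [0, 1], [0, 2], [0, 3], [1, 2], [1, 3], [2, 1], [2, 3], [3, 2], [0, 1, 2], [0, 1, 3], [0, 2, 1], [0, 2, 3], [0, 3, 2], [1, 2, 1], [1, 2, 3], [1, 3, 2], [2, 1, 3], [2, 3, 2], [3, 2, 1], [3, 2, 3], [0, 1, 2, 1], [0, 1, 2, 3], [0, 1, 3, 2], [0, 2, 1, 3], [0, 2, 3, 2], [0, 3, 2, 1], [0, 3, 2, 3], [1, 2, 1, 3], [1, 2, 3, 2], [1, 3, 2, 1], [1, 3, 2, 3], [2, 1, 3, 2], [2, 3, 2, 1], [2, 3, 2, 3], [3, 2, 1, 3], [3, 2, 3, 2], [0, 1, 2, 1, 3], [0, 1, 2, 3, 2], [0, 1,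 3, 2, 1], [0, 1, 3, 2, 3], [0, 2, 1, 3, 2], [0, 2, 3, 2, 1], [0, 2, 3, 2, 3], [0, 3, 2, 1, 3], [0, 3, 2, 3, 2], [1, 2, 1, 3, 2], [1, 2, 3, 2, 1], [1, 2, 3, 2, 3], [1, 3, 2, 1, 3], [1, 3, 2, 3, 2], [2, 1, 3, 2, 1], [2, 1, 3, 2, 3], [2, 3, 2, 1, 3], [2, 3, 2, 3, 2], [3, 2, 1, 3, 2], [3, 2, 3, 2, 1], [0, 1, 2, 1, 3, 2], [0, 1, 2, 3, 2, 1], [0, 1, 2, 3, 2, 3], [0, 1, 3, 2, 1, 3], [0, 1, 3, 2, 3, 2], [0, 2, 1, 3, 2, 1], [0, 2, 1, 3, 2, 3], [0, 2, 3, 2, 1, 3], [0, 2, 3, 2, 3, 2], [0, 3, 2, 1, 3, 2], [0, 3, 2, 3, 2, 1], [1, 2, 1, 3, 2, 1], [1, 2, 1, 3, 2, 3], [1, 2, 3, 2, 1, 3], [1, 2, 3, 2, 3, 2], [1, 3, 2, 1, 3, 2], [1, 3, 2, 3, 2, 1], [2, 1, 3, 2, 1, 3], [2, 1, 3, 2, 3, 2], [2, 3, 2, 1, 3, 2], [2, 3, 2, 3, 2, 1], [3, 2, 1, 3, 2, 1], [3, 2, 1, 3, 2, 3], [0, 1, 2,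 1, 3, 2, 1], [0, 1, 2, 1, 3, 2, 3], [0, 1, 2, 3, 2, 1, 3], [0, 1, 2, 3, 2, 3, 2], [0, 1, 3, 2, 1, 3, 2], [0, 1, 3, 2, 3, 2, 1], [0, 2, 1, 3, 2, 1, 3], [0, 2, 1, 3, 2, 3, 2], [0, 2, 3, 2, 1, 3, 2], [0, 2, 3, 2, 3, 2, 1], [0, 3, 2, 1, 3, 2, 1], [0, 3, 2, 1, 3, 2, 3], [1, 2, 1, 3, 2, 1, 3], [1, 2, 1, 3, 2, 3, 2], [1, 2, 3, 2, 1, 3, 2], [1, 2, 3, 2, 3, 2, 1], [1, 3, 2, 1, 3, 2, 1], [1, 3, 2, 1, 3, 2, 3], [2, 1, 3, 2, 1, 3, 2], [2, 1, 3, 2, 3, 2, 1], [2, 3, 2, 1, 3, 2, 1], [2, 3, 2, 1, 3, 2, 3], [3, 2, 1, 3, 2, 1, 3], [3, 2, 1, 3, 2, 3, 2], [0, 1, 2, 1, 3, 2, 1, 3], [0, 1, 2, 1, 3, 2, 3, 2], [0, 1, 2, 3, 2, 1, 3, 2], [0, 1, 2, 3, 2, 3, 2, 1], [0, 1, 3, 2, 1, 3, 2, 1], [0, 1, 3, 2, 1, 3, 2, 3], [0, 2, 1, 3, 2, 1, 3, 2], [0, 2, 1, 3, 2, 3, 2, 1], [0, 2, 3, 2, 1, 3,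 2, 1], [0, 2, 3, 2, 1, 3, 2, 3], [0, 3, 2, 1, 3, 2, 1, 3], [0, 3, 2, 1, 3, 2, 3, 2]]

/-- The model element of a letter. -/
def mdlLetter : ℕ → Option Mdl
  | 0 => some m1
  | 1 => some gA1
  | 2 => some gA2
  | 3 => some gA3
  | 7 => some 1
  | _ => none

/-- The model element of a word. -/
def mdlWord : List ℕ → Option Mdl
  | [] => some 1
  | g :: w => match mdlLetter g, mdlWord w with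
    | some a, some c => some (a * c)
    | _, _ => none

theorem stdWords_all : ∀ m : Mdl, (stdWords.any fun w => decide (mdlWord w = some m)) = true := by
  decide +kernel

end Cfsg.Agent.JankoUnique
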