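/-
Recognition of the relators which hold in a group in standard position.
-/
import Cfsg.Agent.Lib.JankoUnique.Basis
import Cfsg.Agent.Lib.JankoUnique.Words
import Cfsg.Agent.Lib.JankoUnique.Cert

set_option autoImplicit false

namespace Cfsg.Agent.JankoUnique

open JankoOneOrder

/-- A candidate position of the fourth generator. -/
structure Conf where
  k : ℕ
  s : Fin 8
  w : Mdl
  /-- A word for `w`. -/
  wl : List ℕ
  /-- A word for the generator commuting with the fourth one. -/
  cl : List ℕ

variable {G : Type*} [Group G] (b : Basis G) (c : Conf)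

/-- The fourth generator. -/
def Basis.r0 : G := b.n ^ c.k * b.ψ c.w * (b.n ^ c.k)⁻¹

/-- The group element of a letter. -/
def Basis.gen : ℕ → G
  | 0 => b.ψ m1
  | 1 => b.ψ gA1
  | 2 => b.ψ gA2
  | 3 => b.ψ gA3
  | 4 => b.r0 c
  | 5 => b.n
  | 6 => b.n⁻¹
  | _ => 1

/-- The product of a word. -/
def Basis.ev : List ℕ → G
  | [] => 1
  | g :: w => b.gen c g * Basis.ev w

theorem Basis.ev_append : ∀ u v : List ℕ, b.ev c (u ++ v) = b.ev c u * b.ev c v
  | [], v => (one_mul _).symm
  | g :: u, v => by rw [List.cons_append, Basis.ev, Basis.ev, Basis.ev_append u v, mul_assoc]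

theorem Basis.ev_replicate (g : ℕ) : ∀ j, b.ev c (List.replicate j g) = b.gen c g ^ j
  | 0 => (pow_zero _).symm
  | j + 1 => by rw [List.replicate_succ, Basis.ev, Basis.ev_replicate g j, pow_succ']

theorem mdlLetter_sound : ∀ (g : ℕ) (m : Mdl), mdlLetter g = some m → b.gen c g = b.ψ m
  | 0, m, h | 1, m, h | 2, m, h | 3, m, h => by cases h; rfl
  | 7, m, h => by cases h; exact (map_one _).symm
  | 4, m, h | 5, m, h | 6, m, h => by cases h
  | n + 8, m, h => by cases h

theorem mdlWord_sound : ∀ (w : List ℕ) (m : Mdl), mdlWord w = some m → b.ev c w = b.ψ m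
  | [], m, h => by cases h; exact (map_one _).symm
  | g :: w, m, h => by
    simp only [mdlWord] at h
    cases h1 : mdlLetter g with
    | none => simp [h1] at h
    | some a =>
      cases h2 : mdlWord w with
      | none => simp [h1, h2] at h
      | some d =>
        simp only [h1, h2, Option.some.injEq] at h
        rw [Basis.ev, mdlLetter_sound b c g a h1, mdlWord_sound w d h2, ← h, map_mul]

/-- The letters seen in the frame of the conjugated centraliser. -/
def frameLetter (c : Conf) : ℕ → Option Mdl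
  | 0 => some (sv (fF^[7 - c.k] 1))
  | 1 => some (sv (fF^[7 - c.k] 2))
  | 3 => some (sv (fF^[7 - c.k] 4))
  | 4 => some c.w
  | _ => none

/-- A word seen in the frame of the conjugated centraliser. -/
def frameWord (c : Conf) : List ℕ → Option Mdl
  | [] => some 1
  | g :: w => match frameLetter c g, frameWord c w with
    | some a, some d => some (a * d)
    | _, _ => none

theorem Basis.frame_sv (hk : c.k ≤ 7) (a : Fin 8) :
    b.n ^ c.k * b.ψ (sv (fF^[7 - c.k] a)) * (b.n ^ c.k)⁻¹ = b.ψ (sv a) := by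
  rw [iter_conj b.ψ b.n fF b.conjn, ← Function.iterate_add_apply, show c.k + (7 - c.k) = 7 by omega,
    fF_facts.2.2.2.1]

theorem frameLetter_sound (hk : c.k ≤ 7) : ∀ (g : ℕ) (m : Mdl), frameLetter c g = some m →
    b.gen c g = b.n ^ c.k * b.ψ m * (b.n ^ c.k)⁻¹
  | 0, m, h => by cases h; exact (b.frame_sv c hk 1).symm
  | 1, m, h => by cases h; exact (b.frame_sv c hk 2).symm
  | 3, m, h => by cases h; exact (b.frame_sv c hk 4).symm
  | 4, m, h => by cases h; rfl
  | 2, m, h => by cases h
  | n + 5, m, h => by cases h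

theorem frameWord_sound (hk : c.k ≤ 7) : ∀ (w : List ℕ) (m : Mdl), frameWord c w = some m →
    b.ev c w = b.n ^ c.k * b.ψ m * (b.n ^ c.k)⁻¹
  | [], m, h => by cases h; rw [map_one, mul_one, mul_inv_cancel]; rfl
  | g :: w, m, h => by
    simp only [frameWord] at h
    cases h1 : frameLetter c g with
    | none => simp [h1] at h
    | some a =>
      cases h2 : frameWord c w with
      | none => simp [h1, h2] at h
      | some d =>
        simp only [h1, h2, Option.some.injEq] at h
        rw [Basis.ev, frameLetter_sound b c hk g a h1, frameWord_sound hk w d h2, ← h, map_mul]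
        group

/-- Inverse of a letter. -/
def invLetter : ℕ → ℕ
  | 5 => 6
  | 6 => 5
  | g => g

/-- Inverse word. -/
def invWord (w : List ℕ) : List ℕ := w.reverse.map invLetter

/-- A word for an element of the standard subgroup. -/
def svWord (a : Fin 8) : List ℕ :=
  (if a.val % 2 = 1 then [0] else []) ++ (if a.val / 2 % 2 = 1 then [1] else []) ++ (if a.val / 4 = 1 then [3] else [])

/-- A word for `gV`. -/
def vWord : List ℕ := [2, 3, 2, 1, 3, 2]

/-- The relators peculiar to the position. -/
def special (c : Conf) : List (List ℕ) :=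
  [List.replicate 7 5, [5, 6], [6, 5], [5] ++ svWord 1 ++ [6] ++ (svWord (fF 1)).reverse,
    [5] ++ svWord 2 ++ [6] ++ (svWord (fF 2)).reverse, [5] ++ svWord 4 ++ [6] ++ (svWord (fF 4)).reverse,
    vWord ++ [5] ++ vWord.reverse ++ [6, 6],
    [4] ++ (List.replicate c.k 5 ++ (c.wl ++ List.replicate c.k 6)),
    ([4] ++ c.cl) ++ ([4] ++ c.cl)]

/-- A recognised relator, up to inversion. -/
def okBase (c : Conf) (w : List ℕ) : Bool :=
  decide (mdlWord w = some 1) || (decide (frameWord c w = some 1) || (special c).contains w)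

/-- A recognised relator. -/
def okWord (c : Conf) (w : List ℕ) : Bool := okBase c w || okBase c (invWord w)

/-- The hypotheses on the position. -/
structure Pos (G : Type*) [Group G] (b : Basis G) (c : Conf) : Prop where
  hk : c.k ≤ 7
  sq : c.w * c.w = 1
  wl : mdlWord c.wl = some c.w
  comm : ∀ m, mdlWord c.cl = some m → b.r0 c * b.ψ m = b.ψ m * b.r0 c
  cl : ∃ m, mdlWord c.cl = some m ∧ m * m = 1

variable {b c}

theorem Pos.r0_sq (P : Pos G b c) : b.r0 c * b.r0 c = 1 := by
  unfold Basis.r0
  calc _ = b.n ^ c.k * (b.ψ c.w * b.ψ c.w) * (b.n ^ c.k)⁻¹ := by group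
    _ = 1 := by rw [← map_mul, P.sq, map_one]; group

theorem gen_inv (P : Pos G b c) : ∀ g, b.gen c (invLetter g) * b.gen c g = 1
  | 0 => show b.ψ m1 * b.ψ m1 = 1 by rw [← map_mul, ← sv_one, sv_sq, map_one]
  | 1 => show b.ψ gA1 * b.ψ gA1 = 1 by rw [← map_mul, show gA1 * gA1 = 1 by decide +kernel, map_one]
  | 2 => show b.ψ gA2 * b.ψ gA2 = 1 by rw [← map_mul, show gA2 * gA2 = 1 by decide +kernel, map_one]
  | 3 => show b.ψ gA3 * b.ψ gA3 = 1 by rw [← map_mul, show gA3 * gA3 = 1 by decide +kernel, map_one]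
  | 4 => P.r0_sq
  | 5 => inv_mul_cancel _
  | 6 => mul_inv_cancel _
  | n + 7 => show (1 : G) * 1 = 1 from one_mul 1

theorem ev_invWord (P : Pos G b c) : ∀ w, b.ev c (invWord w) = (b.ev c w)⁻¹
  | [] => inv_one.symm
  | g :: w => by
    have h : invWord (g :: w) = invWord w ++ [invLetter g] := by simp [invWord]
    rw [h, Basis.ev_append, ev_invWord P w]
    show (b.ev c w)⁻¹ * (b.gen c (invLetter g) * 1) = (b.gen c g * b.ev c w)⁻¹
    rw [mul_inv_rev]
    rw [mul_one, eq_inv_of_mul_eq_one_left (gen_inv P g)]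

theorem ev_svWord (a : Fin 8) : b.ev c (svWord a) = b.ψ (sv a) := by
  refine mdlWord_sound b c _ _ ?_
  revert a
  decide +kernel

theorem ev_svWord_rev (a : Fin 8) : b.ev c (svWord a).reverse = b.ψ (sv a) := by
  refine mdlWord_sound b c _ _ ?_
  revert a
  decide +kernel

theorem special_sound (P : Pos G b c) : ∀ w ∈ special c, b.ev c w = 1 := by
  intro w hw
  simp only [special, List.mem_cons, List.not_mem_nil, or_false] at hw
  have h5 : b.ev c [5] = b.n := mul_one _
  have h6 : b.ev c [6] = b.n⁻¹ := mul_one _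
  have hconj : ∀ a : Fin 8, b.ev c ([5] ++ svWord a ++ [6] ++ (svWord (fF a)).reverse) = 1 := by
    intro a
    rw [Basis.ev_append, Basis.ev_append, Basis.ev_append, h5, h6, ev_svWord, ev_svWord_rev, b.conjn,
      ← map_mul, sv_sq, map_one]
  rcases hw with rfl | rfl | rfl | rfl | rfl | rfl | rfl | rfl | rfl
  · rw [Basis.ev_replicate]; exact b.seven
  · show b.n * (b.n⁻¹ * 1) = 1
    group
  · show b.n⁻¹ * (b.n * 1) = 1
    group
  · exact hconj 1
  · exact hconj 2
  · exact hconj 4
  · have hv : b.ev c vWord = b.ψ gV := mdlWord_sound b c _ _ (by decide +kernel)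
    have hv' : b.ev c vWord.reverse = (b.ψ gV)⁻¹ := by
      rw [← map_inv]; exact mdlWord_sound b c _ _ (by decide +kernel)
    rw [Basis.ev_append, Basis.ev_append, Basis.ev_append, h5, hv, hv']
    show _ * (b.n⁻¹ * (b.n⁻¹ * 1)) = 1
    rw [b.vrel]; group
  · rw [Basis.ev_append, Basis.ev_append, Basis.ev_append, Basis.ev_replicate, Basis.ev_replicate,
      mdlWord_sound b c _ _ P.wl]
    show b.r0 c * 1 * (b.n ^ c.k * (b.ψ c.w * b.n⁻¹ ^ c.k)) = 1
    rw [mul_one, inv_pow, ← mul_assoc (b.n ^ c.k)]
    exact P.r0_sq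
  · obtain ⟨m, hm, hm2⟩ := P.cl
    rw [Basis.ev_append, Basis.ev_append, mdlWord_sound b c _ _ hm]
    show b.r0 c * 1 * b.ψ m * (b.r0 c * 1 * b.ψ m) = 1
    rw [mul_one]
    calc b.r0 c * b.ψ m * (b.r0 c * b.ψ m) = b.r0 c * (b.ψ m * b.r0 c) * b.ψ m := by group
      _ = (b.r0 c * b.r0 c) * (b.ψ m * b.ψ m) := by rw [← P.comm m hm]; group
      _ = 1 := by rw [P.r0_sq, ← map_mul, hm2, map_one, mul_one]

theorem okWord_sound (P : Pos G b c) (w : List ℕ) (h : okWord c w = true) : b.ev c w = 1 := by
  have key : ∀ v, okBase c v = true → b.ev c v = 1 := by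
    intro v hv
    simp only [okBase, Bool.or_eq_true, decide_eq_true_eq, List.contains_iff_mem] at hv
    rcases hv with hv | hv | hv
    · rw [mdlWord_sound b c v 1 hv, map_one]
    · rw [frameWord_sound b c P.hk v 1 hv, map_one]; group
    · exact special_sound P v hv
  simp only [okWord, Bool.or_eq_true] at h
  rcases h with h | h
  · exact key w h
  · have := key _ h
    rwa [ev_invWord P, inv_eq_one] at this

/-- The model of a certificate: letters act by the inverse elements. -/
theorem act_inv {X : Type*} [MulAction G X] (f : ℕ → G) : ∀ (w : List ℕ) (x : X),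
    Cert.act (fun g => (f g)⁻¹) w x = ((w.map f).prod)⁻¹ • x
  | [], x => by simp [Cert.act]
  | g :: w, x => by
    show Cert.act _ w ((f g)⁻¹ • x) = _
    rw [act_inv f w, smul_smul, List.map_cons, List.prod_cons, mul_inv_rev]

theorem map_prod_eq : ∀ w : List ℕ, (w.map (b.gen c)).prod = b.ev c w
  | [] => rfl
  | g :: w => by rw [List.map_cons, List.prod_cons, map_prod_eq w]; rfl

/-- A certificate applies to a group in standard position. -/
theorem model_of_ok (P : Pos G b c) (D : Cert) (hinv : ∀ g : Fin 8, D.invl g.val = invLetter g.val)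
    (hok : (D.rels.all (okWord c)) = true) {X : Type*} [MulAction G X] {p : X}
    (hsub : ∀ g ∈ D.subs, (b.gen c g)⁻¹ • p = p) : D.Model (fun g => (b.gen c g)⁻¹) p where
  el7 := inv_one
  inv g hg := by
    rw [← mul_inv_rev, inv_eq_one, hinv ⟨g, hg⟩]
    exact eq_inv_iff_mul_eq_one.mp (eq_inv_of_mul_eq_one_right (gen_inv P g))
  rels w hw x := by
    rw [act_inv, map_prod_eq, okWord_sound P w (List.all_eq_true.mp hok w hw), inv_one, one_smul]
  subs := hsub
  dflt g hg := by
    obtain ⟨k, rfl⟩ := Nat.exists_eq_add_of_le hg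
    rw [Nat.add_comm]
    exact inv_one

end Cfsg.Agent.JankoUnique
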