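/-
An element of order three commuting with the element of order five and inverted by the central involution.
-/
import Cfsg.Agent.Lib.JankoUnique.Basis

set_option autoImplicit false

namespace Cfsg.Agent.JankoUnique

open Cfsg Subgroup JankoOneOrder

section General

variable {K : Type*} [Group K] [Finite K]

theorem index_normalizer_mod {q : ℕ} [hq : Fact q.Prime] {a : K} (ha : orderOf a = q)
    (hsq : ¬ q * q ∣ Nat.card K) : (normalizer ((zpowers a : Subgroup K) : Set K)).index % q = 1 := by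
  have hdvd : q ∣ Nat.card K := ha ▸ orderOf_dvd_natCard a
  have hfac : (Nat.card K).factorization q = 1 := by
    obtain ⟨k, hk⟩ := hdvd
    have hk0 : k ≠ 0 := fun h => Nat.card_pos.ne' (by rw [hk, h, mul_zero] : Nat.card K = 0)
    have hqk : ¬ q ∣ k := fun h => hsq (hk ▸ Nat.mul_dvd_mul_left q h)
    rw [hk, Nat.factorization_def _ hq.out, padicValNat.mul hq.out.ne_zero hk0,
      padicValNat.self hq.out.one_lt, padicValNat.eq_zero_of_not_dvd hqk]
  let P : Sylow q K := Sylow.ofCard (zpowers a) (by rw [Nat.card_zpowers, ha, hfac, pow_one])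
  have h := card_sylow_modEq_one q K
  rw [Sylow.card_eq_index_normalizer P] at h
  unfold Nat.ModEq at h
  rw [Nat.mod_eq_of_lt hq.out.one_lt] at h
  exact h

/-- An involution in a group of order twice an odd number lies outside a normal subgroup of odd order. -/
theorem exists_odd_normal {z : K} (hz : z * z = 1) (hz1 : z ≠ 1) (h4 : ¬ 4 ∣ Nat.card K) :
    ∃ O : Subgroup K, O.Normal ∧ ¬ 2 ∣ Nat.card O ∧ Nat.card O * 2 = Nat.card K := by
  have : Fact (Nat.Prime 2) := ⟨Nat.prime_two⟩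
  have hoz : orderOf z = 2 := orderOf_eq_prime (by rw [pow_two, hz]) hz1
  have hfac : (Nat.card K).factorization 2 = 1 := by
    obtain ⟨k, hk⟩ : 2 ∣ Nat.card K := hoz ▸ orderOf_dvd_natCard z
    have hk0 : k ≠ 0 := fun h => Nat.card_pos.ne' (by rw [hk, h, mul_zero] : Nat.card K = 0)
    have hqk : ¬ 2 ∣ k := fun h => h4 (hk ▸ Nat.mul_dvd_mul_left 2 h)
    rw [hk, Nat.factorization_def _ Nat.prime_two, padicValNat.mul (by norm_num) hk0,
      padicValNat.self (by norm_num), padicValNat.eq_zero_of_not_dvd hqk]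
  let P : Sylow 2 K := Sylow.ofCard (zpowers z) (by rw [Nat.card_zpowers, hoz, hfac, pow_one])
  have hP : (P : Subgroup K) = zpowers z := rfl
  have hnc : normalizer (P : Set K) ≤ centralizer (P : Set K) := by
    intro g hg
    have hgz : g * z * g⁻¹ ∈ zpowers z := (mem_normalizer_iff.mp hg z).mp (mem_zpowers z)
    have hfix : g * z * g⁻¹ = z := by
      obtain ⟨i, hi⟩ := mem_zpowers_iff.mp hgz
      rcases Int.even_or_odd i with ⟨j, hj⟩ | ⟨j, hj⟩
      · exfalso
        rw [hj, ← two_mul, zpow_mul, zpow_two, hz, one_zpow] at hi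
        exact hz1 (conj_eq_one_iff.mp hi.symm)
      · rw [← hi, hj, zpow_add_one, zpow_mul, zpow_two, hz, one_zpow, one_mul]
    refine mem_centralizer_iff.mpr fun h hh => ?_
    obtain ⟨i, rfl⟩ := mem_zpowers_iff.mp (show h ∈ zpowers z from hh)
    exact (Commute.zpow_right (mul_inv_eq_iff_eq_mul.mp hfix) i).symm
  refine ⟨(MonoidHom.transferSylow P hnc).ker, inferInstance, MonoidHom.not_dvd_card_ker_transferSylow P hnc, ?_⟩
  have h := (MonoidHom.ker_transferSylow_isComplement' P hnc).card_mul_card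
  have hPc : Nat.card ↥(P : Subgroup K) = 2 := by
    show Nat.card ↥(zpowers z) = 2
    rw [Nat.card_zpowers, hoz]
  rwa [hPc] at h

theorem mem_of_odd {O : Subgroup K} [O.Normal] (hO : Nat.card O * 2 = Nat.card K) {x : K} {q : ℕ}
    (hq : ¬ 2 ∣ q) (hx : x ^ q = 1) : x ∈ O := by
  have hidx : O.index = 2 := by
    have := card_mul_index O
    have := (Nat.card_pos : 0 < Nat.card O)
    nlinarith
  have h2 := O.pow_index_mem x
  rw [hidx] at h2
  obtain ⟨k, hk⟩ : ∃ k, q = 2 * k + 1 := ⟨q / 2, by omega⟩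
  rw [hk, pow_succ, pow_mul] at hx
  rw [eq_inv_of_mul_eq_one_right hx]
  exact inv_mem (pow_mem h2 k)

/-- A subgroup of odd prime order is normalised by some involution, if the order is twice an odd number. -/
theorem exists_invol_normalizer {q : ℕ} [hq : Fact q.Prime] (hq2 : q ≠ 2) {z : K} (hz : z * z = 1)
    (hz1 : z ≠ 1) (h4 : ¬ 4 ∣ Nat.card K) (hsq : ¬ q * q ∣ Nat.card K) {x : K} (hx : orderOf x = q) :
    ∃ t : K, t * t = 1 ∧ t ≠ 1 ∧ t ∈ normalizer ((zpowers x : Subgroup K) : Set K) := by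
  obtain ⟨O, hOn, hodd, hO⟩ := exists_odd_normal hz hz1 h4
  have hqodd : ¬ 2 ∣ q := fun h => hq2 ((Nat.prime_dvd_prime_iff_eq Nat.prime_two hq.out).mp h).symm
  have hxO : x ∈ O := mem_of_odd hO hqodd (by rw [← hx, pow_orderOf_eq_one])
  have hfac : (Nat.card O).factorization q = 1 := by
    have hdvd : q ∣ Nat.card O := by
      have := orderOf_dvd_natCard (⟨x, hxO⟩ : O)
      rwa [orderOf_mk, hx] at this
    obtain ⟨k, hk⟩ := hdvd
    have hk0 : k ≠ 0 := fun h => Nat.card_pos.ne' (by rw [hk, h, mul_zero] : Nat.card O = 0)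
    have hqk : ¬ q ∣ k := fun h => hsq (by
      rw [← hO, hk]; exact (Nat.mul_dvd_mul_left q h).mul_right 2)
    rw [hk, Nat.factorization_def _ hq.out, padicValNat.mul hq.out.ne_zero hk0,
      padicValNat.self hq.out.one_lt, padicValNat.eq_zero_of_not_dvd hqk]
  let P : Sylow q O := Sylow.ofCard (zpowers (⟨x, hxO⟩ : O)) (by
    rw [Nat.card_zpowers, orderOf_mk, hx, hfac, pow_one])
  have h := Sylow.normalizer_sup_eq_top P
  have hmap : (P : Subgroup O).map O.subtype = zpowers x := by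
    show (zpowers (⟨x, hxO⟩ : O)).map O.subtype = _
    rw [MonoidHom.map_zpowers]; rfl
  rw [hmap] at h
  set N := normalizer ((zpowers x : Subgroup K) : Set K)
  have hN2 : 2 ∣ Nat.card N := by
    by_contra hne
    have hle : N ≤ O := by
      intro g hg
      refine mem_of_odd hO hne ?_
      have := pow_card_eq_one' (x := (⟨g, hg⟩ : N))
      exact congrArg Subtype.val this
    rw [sup_eq_right.mpr hle] at h
    rw [h, card_top] at hO
    have := (Nat.card_pos : 0 < Nat.card K)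
    omega
  have : Fact (Nat.Prime 2) := ⟨Nat.prime_two⟩
  obtain ⟨t, ht⟩ := exists_prime_orderOf_dvd_card' 2 hN2
  refine ⟨t, ?_, fun h => ?_, t.2⟩
  · have := pow_orderOf_eq_one t
    rw [ht, pow_two] at this
    exact congrArg Subtype.val this
  · rw [orderOf_eq_one_iff.mpr (Subtype.ext h : t = 1)] at ht
    omega

/-- Involutions of a subgroup are conjugate in it, if the order is twice an odd number. -/
theorem invol_conj (h4 : ¬ 4 ∣ Nat.card K) {s t : K} (hs : s * s = 1) (hs1 : s ≠ 1) (ht : t * t = 1)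
    (ht1 : t ≠ 1) (N : Subgroup K) (hsN : s ∈ N) (htN : t ∈ N) : ∃ g ∈ N, g * s * g⁻¹ = t := by
  have : Fact (Nat.Prime 2) := ⟨Nat.prime_two⟩
  have ho : ∀ u : N, (u : K) * u = 1 → (u : K) ≠ 1 → orderOf u = 2 := fun u h h1 =>
    orderOf_eq_prime (Subtype.ext (by rw [SubmonoidClass.coe_pow, pow_two, h]; rfl))
      fun e => h1 (congrArg Subtype.val e)
  have hfac : (Nat.card N).factorization 2 = 1 := by
    obtain ⟨k, hk⟩ : 2 ∣ Nat.card N := (ho ⟨s, hsN⟩ hs hs1) ▸ orderOf_dvd_natCard _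
    have hk0 : k ≠ 0 := fun h => Nat.card_pos.ne' (by rw [hk, h, mul_zero] : Nat.card N = 0)
    have hqk : ¬ 2 ∣ k := fun h =>
      h4 ((hk ▸ Nat.mul_dvd_mul_left 2 h : 4 ∣ Nat.card N).trans (card_subgroup_dvd_card N))
    rw [hk, Nat.factorization_def _ Nat.prime_two, padicValNat.mul (by norm_num) hk0,
      padicValNat.self (by norm_num), padicValNat.eq_zero_of_not_dvd hqk]
  let P : Sylow 2 N := Sylow.ofCard (zpowers ⟨s, hsN⟩) (by
    rw [Nat.card_zpowers, ho _ hs hs1, hfac, pow_one])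
  let Q : Sylow 2 N := Sylow.ofCard (zpowers ⟨t, htN⟩) (by
    rw [Nat.card_zpowers, ho _ ht ht1, hfac, pow_one])
  obtain ⟨g, hg⟩ := MulAction.exists_smul_eq N P Q
  have hmem : g * ⟨s, hsN⟩ * g⁻¹ ∈ zpowers (⟨t, htN⟩ : N) := by
    have h := congrArg (fun R : Sylow 2 N => (R : Subgroup N)) hg
    simp only [Sylow.coe_subgroup_smul] at h
    change _ = zpowers (⟨t, htN⟩ : N) at h
    rw [← h, mem_pointwise_smul_iff_inv_smul_mem, ← map_inv, MulAut.smul_def, MulAut.conj_apply]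
    show g⁻¹ * (g * ⟨s, hsN⟩ * g⁻¹) * g⁻¹⁻¹ ∈ zpowers (⟨s, hsN⟩ : N)
    rw [show g⁻¹ * (g * (⟨s, hsN⟩ : N) * g⁻¹) * g⁻¹⁻¹ = ⟨s, hsN⟩ by group]
    exact mem_zpowers _
  obtain ⟨i, hi⟩ := mem_zpowers_iff.mp hmem
  refine ⟨g, g.2, ?_⟩
  have hi' : (t : K) ^ i = g * s * (g : K)⁻¹ := by simpa using congrArg Subtype.val hi
  rcases Int.even_or_odd i with ⟨j, hj⟩ | ⟨j, hj⟩
  · exfalso
    rw [hj, ← two_mul, zpow_mul, zpow_two, ht, one_zpow] at hi'
    exact hs1 (conj_eq_one_iff.mp hi'.symm)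
  · rw [← hi', hj, zpow_add_one, zpow_mul, zpow_two, ht, one_zpow, one_mul]

theorem pow_eq_self_or_inv {x g : K} (hx : x ^ 3 = 1) (hg : g ∈ normalizer ((zpowers x : Subgroup K) : Set K)) :
    g * x * g⁻¹ = x ∨ g * x * g⁻¹ = x⁻¹ ∨ g * x * g⁻¹ = 1 := by
  obtain ⟨i, hi⟩ := mem_zpowers_iff.mp ((mem_normalizer_iff.mp hg x).mp (mem_zpowers x))
  have h := zpow_eq_zpow_emod' i hx
  have h2 : i % (3 : ℕ) = 0 ∨ i % (3 : ℕ) = 1 ∨ i % (3 : ℕ) = 2 := by omega
  rcases h2 with h2 | h2 | h2 <;> rw [h2, hi] at h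
  · exact Or.inr (Or.inr (by rw [h, zpow_zero]))
  · exact Or.inl (by rw [h, zpow_one])
  · refine Or.inr (Or.inl ?_)
    rw [h, zpow_two, eq_inv_iff_mul_eq_one, ← pow_two, ← pow_succ, hx]

end General

theorem dvd_4389 : ∀ m, m ∣ 4389 → m % 5 = 3 → 7 ∣ m ∨ 3 ∣ m := by
  intro m hm h5
  have h := Nat.mem_divisors.mpr ⟨hm, by norm_num⟩
  have : ∀ d ∈ Nat.divisors 4389, d % 5 = 3 → 7 ∣ d ∨ 3 ∣ d := by decide +kernel
  exact this m h h5

variable {G : Type*} [Group G] [Finite G] [IsSimpleGroup G] {t : G}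

theorem Hyp.sq_of_two (H : Hyp G t) {q : G} {k : ℕ} (hq : q ^ 2 ^ k = 1) : q * q = 1 := by
  have : Fact (Nat.Prime 2) := ⟨Nat.prime_two⟩
  obtain ⟨j, -, hj⟩ := (Nat.dvd_prime_pow Nat.prime_two).mp (orderOf_dvd_of_pow_eq_one hq)
  have hp : IsPGroup 2 (zpowers q) := IsPGroup.of_card (n := j) (by rw [Nat.card_zpowers, hj])
  obtain ⟨P, hP⟩ := hp.exists_le_sylow
  have h8 : Nat.card (P : Subgroup G) = 8 := by rw [P.card_eq_multiplicity, H.fac_two]; norm_num
  exact (H.eight h8).1 q (hP (mem_zpowers q))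

/-- An element inducing a power map of 2-power order on a cyclic group squares to the identity on it. -/
theorem Hyp.no_four (H : Hyp G t) {g y : G} (hy : orderOf y = 5)
    (hg : g ∈ normalizer ((zpowers y : Subgroup G) : Set G)) : g * y * g⁻¹ = y ∨ g * y * g⁻¹ = y⁻¹ := by
  obtain ⟨i, hi⟩ := mem_zpowers_iff.mp ((mem_normalizer_iff.mp hg y).mp (mem_zpowers y))
  have hy5 : y ^ 5 = 1 := by rw [← hy, pow_orderOf_eq_one]
  have h := zpow_eq_zpow_emod' i hy5
  have hy1 : y ≠ 1 := fun h => by rw [h, orderOf_one] at hy; omega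
  set j := (i % (5 : ℕ)).toNat with hjdef
  have hj : g * y * g⁻¹ = y ^ j := by
    rw [← hi, h, ← zpow_natCast, hjdef, Int.toNat_of_nonneg (Int.emod_nonneg _ (by norm_num))]
  have hj5 : j < 5 := by omega
  have hpow : ∀ r : ℕ, g ^ r * y * (g ^ r)⁻¹ = y ^ (j ^ r) := by
    intro r
    induction r with
    | zero => simp
    | succ r ih =>
      rw [pow_succ' g, mul_inv_rev, show j ^ (r + 1) = j * j ^ r from pow_succ' j r, pow_mul, ← hj, conj_pow,
        ← ih]
      group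
  -- the 2-part of `g`
  obtain ⟨a, o, ho, hgo⟩ : ∃ a o, ¬ 2 ∣ o ∧ orderOf g = 2 ^ a * o :=
    Nat.exists_eq_pow_mul_and_not_dvd (orderOf_pos g).ne' 2 (by norm_num)
  have hq2 : g ^ o * g ^ o = 1 := H.sq_of_two (k := a) (by
    rw [← pow_mul, mul_comm, ← hgo, pow_orderOf_eq_one])
  have h2o := hpow (o + o)
  rw [pow_add, hq2, one_mul, inv_one, mul_one] at h2o
  have hmod : j ^ (o + o) % 5 = 1 := by
    have := pow_eq_pow_mod (j ^ (o + o)) hy5
    rw [← h2o] at this
    have hlt : j ^ (o + o) % 5 < 5 := Nat.mod_lt _ (by norm_num)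
    by_contra hne
    have h' : y ^ (j ^ (o + o) % 5) = y ^ 1 := by rw [pow_one]; exact this.symm
    exact hne (pow_injOn_Iio_orderOf (by rw [hy]; exact hlt) (by rw [hy]; exact (by norm_num : 1 ∈ Set.Iio 5)) h')
  obtain ⟨r, hr⟩ : ∃ r, o = 2 * r + 1 := ⟨o / 2, by omega⟩
  rw [show o + o = 4 * r + 2 by omega, pow_add, pow_mul, Nat.mul_mod, Nat.pow_mod] at hmod
  interval_cases j
  · simp at hmod
  · left; rw [hj, pow_one]
  · norm_num at hmod
  · norm_num at hmod
  · right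
    rw [hj, eq_inv_iff_mul_eq_one, ← pow_succ, hy5]

theorem Hyp.seven_conj (H : Hyp G t) {a : G} (ha : orderOf a = 7) : IsConj a (a ^ 2) := by
  obtain ⟨a0, -, -, -, ha7, ha1, hc, -⟩ := H.seven
  have hfac : (Nat.card G).factorization 7 = 1 := by
    rw [H.order, Nat.factorization_def _ (by norm_num : Nat.Prime 7), show (175560 : ℕ) = 7 * 25080 by norm_num,
      padicValNat.mul (by norm_num) (by norm_num), padicValNat.self (by norm_num),
      padicValNat.eq_zero_of_not_dvd (by norm_num : ¬ 7 ∣ 25080)]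
  let P : Sylow 7 G := Sylow.ofCard (zpowers a0) (by
    rw [Nat.card_zpowers, orderOf_eq_prime ha7 ha1, hfac, pow_one])
  let Q : Sylow 7 G := Sylow.ofCard (zpowers a) (by rw [Nat.card_zpowers, ha, hfac, pow_one])
  obtain ⟨g, hg⟩ := MulAction.exists_smul_eq G P Q
  have hmem : g⁻¹ * a * g ∈ zpowers a0 := by
    have h := congrArg (fun R : Sylow 7 G => (R : Subgroup G)) hg
    simp only [Sylow.coe_subgroup_smul] at h
    change _ = zpowers a at h
    have h2 : a ∈ zpowers a := mem_zpowers a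
    rw [← h, mem_pointwise_smul_iff_inv_smul_mem, ← map_inv, MulAut.smul_def, MulAut.conj_apply, inv_inv] at h2
    exact h2
  obtain ⟨i, hi⟩ := mem_zpowers_iff.mp hmem
  have e : a = g * a0 ^ i * g⁻¹ := by rw [hi]; group
  obtain ⟨k, hk⟩ := isConj_iff.mp hc
  refine isConj_iff.mpr ⟨g * k * g⁻¹, ?_⟩
  rw [e, conj_pow]
  calc _ = g * (k * a0 ^ i * k⁻¹) * g⁻¹ := by group
    _ = _ := by
      rw [← conj_zpow, hk, ← zpow_natCast, ← zpow_natCast, ← zpow_mul, ← zpow_mul, mul_comm]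

/-- An element of order seven centralises no element of order five. -/
theorem Hyp.no_seven (H : Hyp G t) {a y s : G} (ha : orderOf a = 7) (hy : orderOf y = 5)
    (hay : y * a = a * y) (hs : s * s = 1) (hs1 : s ≠ 1)
    (hsn : s ∈ normalizer ((zpowers a : Subgroup G) : Set G)) : False := by
  have : Fact (Nat.Prime 2) := ⟨Nat.prime_two⟩
  set N := normalizer ((zpowers a : Subgroup G) : Set G) with hN
  have ha7 : a ^ 7 = 1 := by rw [← ha, pow_orderOf_eq_one]
  have hyN : y ∈ N := by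
    refine mem_normalizer_iff.mpr fun h => ?_
    have hc : ∀ u ∈ zpowers a, y * u * y⁻¹ = u := fun u hu => by
      obtain ⟨i, rfl⟩ := mem_zpowers_iff.mp hu
      exact mul_inv_eq_iff_eq_mul.mpr (Commute.zpow_right hay i)
    constructor
    · intro hh; rw [hc h hh]; exact hh
    · intro hh
      have h2 := hc _ hh
      have : y * h * y⁻¹ = h := by
        calc y * h * y⁻¹ = y⁻¹ * (y * (y * h * y⁻¹) * y⁻¹) * y := by group
          _ = y⁻¹ * (y * h * y⁻¹) * y := by rw [h2]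
          _ = h := by group
      rwa [this] at hh
  obtain ⟨g, hg⟩ := isConj_iff.mp (H.seven_conj ha)
  have hgit : ∀ r : ℕ, g ^ r * a * (g ^ r)⁻¹ = a ^ (2 ^ r) := by
    intro r
    induction r with
    | zero => simp
    | succ r ih =>
      rw [pow_succ' g, mul_inv_rev, pow_succ 2, mul_comm (2 ^ r) 2, pow_mul a 2, ← hg, conj_pow, ← ih]
      group
  have hgN : g ∈ N := by
    refine mem_normalizer_iff.mpr fun h => ⟨fun hh => ?_, fun hh => ?_⟩
    · obtain ⟨i, rfl⟩ := mem_zpowers_iff.mp hh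
      rw [← conj_zpow, hg]
      exact zpow_mem (pow_mem (mem_zpowers a) 2) i
    · obtain ⟨i, hi⟩ := mem_zpowers_iff.mp hh
      refine mem_zpowers_iff.mpr ⟨4 * i, ?_⟩
      have h4 : a = g * a ^ (4 : ℤ) * g⁻¹ := by
        rw [← conj_zpow, hg, ← zpow_natCast, ← zpow_mul]
        norm_num
        rw [show a ^ 8 = a ^ 7 * a from pow_succ a 7, ha7, one_mul]
      calc a ^ (4 * i) = g⁻¹ * (g * a ^ (4 : ℤ) * g⁻¹) ^ i * g := by rw [conj_zpow, ← zpow_mul]; group
        _ = h := by rw [← h4, hi]; group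
  have h3g : 3 ∣ orderOf g := by
    have h := hgit (orderOf g)
    rw [pow_orderOf_eq_one, one_mul, inv_one, mul_one] at h
    have h2 := pow_eq_pow_mod (2 ^ orderOf g) ha7
    rw [← h] at h2
    have : 2 ^ orderOf g % 7 = 1 := pow_injOn_Iio_orderOf (x := a)
      (by rw [ha]; exact Nat.mod_lt _ (by norm_num)) (by rw [ha]; exact (by norm_num : 1 ∈ Set.Iio 7))
      (by show a ^ (2 ^ orderOf g % 7) = a ^ 1; rw [pow_one]; exact h2.symm)
    have h3 := Nat.div_add_mod (orderOf g) 3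
    rw [← h3, pow_add, pow_mul, Nat.mul_mod, Nat.pow_mod, show 2 ^ 3 % 7 = 1 by norm_num, one_pow] at this
    rcases (show orderOf g % 3 = 0 ∨ orderOf g % 3 = 1 ∨ orderOf g % 3 = 2 by omega) with e | e | e
    · exact Nat.dvd_of_mod_eq_zero e
    · rw [e] at this; norm_num at this
    · rw [e] at this; norm_num at this
  have h210 : 210 ∣ Nat.card N := by
    have e2 : 2 ∣ Nat.card N := by
      have := orderOf_dvd_natCard (⟨s, hsn⟩ : N)
      rwa [orderOf_mk, orderOf_eq_prime (by rw [pow_two, hs]) hs1] at this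
    have e3 : 3 ∣ Nat.card N := by
      have := orderOf_dvd_natCard (⟨g, hgN⟩ : N)
      rw [orderOf_mk] at this
      exact h3g.trans this
    have e5 : 5 ∣ Nat.card N := by
      have := orderOf_dvd_natCard (⟨y, hyN⟩ : N)
      rwa [orderOf_mk, hy] at this
    have e7 : 7 ∣ Nat.card N := by
      have := orderOf_dvd_natCard (⟨a, le_normalizer (mem_zpowers a)⟩ : N)
      rwa [orderOf_mk, ha] at this
    omega
  have hidx := index_normalizer_mod (q := 7) ha (by rw [H.order]; norm_num)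
  rw [← hN] at hidx
  have hmul : Nat.card N * N.index = 175560 := (card_mul_index N).trans H.order
  obtain ⟨j, hj⟩ := h210
  have hji : j * N.index = 836 := by rw [hj, mul_assoc] at hmul; omega
  have hidx' : N.index = 1 ∨ N.index = 22 := by
    have h := Nat.mem_divisors.mpr ⟨Dvd.intro_left j hji, by norm_num⟩
    have : ∀ d ∈ Nat.divisors 836, d % 7 = 1 → d = 1 ∨ d = 22 := by decide +kernel
    exact this _ h hidx
  rcases hidx' with h | h
  · have hnorm : (zpowers a).Normal := normalizer_eq_top_iff.mp (index_eq_one.mp h)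
    rcases hnorm.eq_bot_or_eq_top with h1 | h1
    · rw [zpowers_eq_bot.mp h1, orderOf_one] at ha; omega
    · have := congrArg (fun K : Subgroup G => Nat.card K) h1
      simp only [Nat.card_zpowers, ha, card_top, H.order] at this
      omega
  have hj38 : j = 38 := by rw [h] at hji; omega
  obtain ⟨K, hK⟩ := Sylow.exists_subgroup_card_pow_prime (G := N) 2 (n := 2) (by
    rw [hj, hj38]; norm_num)
  have hKsq : ∀ u : K, ((u : N) : G) * u = 1 := fun u => H.sq_of_two (k := 2) (by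
    have := pow_card_eq_one' (x := u)
    rw [hK] at this
    exact congrArg (fun v : K => ((v : N) : G)) this)
  have hne : ∀ u : K, u ≠ 1 → ((u : N) : G) ≠ 1 := fun u hu e => hu (Subtype.ext (Subtype.ext e))
  have hinv : ∀ u : K, u ≠ 1 → ((u : N) : G) * a * ((u : N) : G)⁻¹ = a⁻¹ := by
    intro u hu
    obtain ⟨i, hi⟩ := mem_zpowers_iff.mp ((mem_normalizer_iff.mp (u : N).2 a).mp (mem_zpowers a))
    have hu2 := hKsq u
    have h2 : a ^ (i * i - 1) = 1 := by
      have e : a ^ (i * i) = a := by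
        rw [zpow_mul, hi, conj_zpow, hi]
        calc _ = ((u : N) : G) * ((u : N) : G) * a * (((u : N) : G) * ((u : N) : G))⁻¹ := by group
          _ = a := by rw [hu2]; group
      rw [zpow_sub, e, zpow_one, mul_inv_cancel]
    have h7 : (7 : ℤ) ∣ i * i - 1 := by
      have := orderOf_dvd_iff_zpow_eq_one.mpr h2
      rwa [ha] at this
    rw [show i * i - 1 = (i - 1) * (i + 1) by ring] at h7
    rcases (Int.prime_iff_natAbs_prime.mpr (by norm_num : Nat.Prime (7 : ℤ).natAbs)).dvd_mul.mp h7 with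
      ⟨r, hr⟩ | ⟨r, hr⟩
    · exfalso
      have hu1 : ((u : N) : G) * a * ((u : N) : G)⁻¹ = a := by
        rw [← hi, show i = 7 * r + 1 by omega, zpow_add_one, zpow_mul, zpow_ofNat, ha7, one_zpow, one_mul]
      have := H.cent_seven hu2 (hne u hu) ha7 (mul_inv_eq_iff_eq_mul.mp hu1).symm
      rw [this, orderOf_one] at ha; omega
    · rw [← hi, show i = 7 * r - 1 by omega, zpow_sub_one, zpow_mul, zpow_ofNat, ha7, one_zpow, one_mul]
  obtain ⟨u, v, hu, hv, huv⟩ : ∃ u v : K, u ≠ 1 ∧ v ≠ 1 ∧ u * v ≠ 1 := by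
    classical
    have := Fintype.ofFinite K
    rw [Nat.card_eq_fintype_card] at hK
    obtain ⟨u, hu⟩ := Finset.exists_mem_notMem_of_card_lt_card (s := ({1} : Finset K)) (t := Finset.univ)
      (by rw [Finset.card_univ, hK]; simp)
    obtain ⟨v, hv⟩ := Finset.exists_mem_notMem_of_card_lt_card (s := ({1, u⁻¹} : Finset K)) (t := Finset.univ)
      (by rw [Finset.card_univ, hK]; exact lt_of_le_of_lt Finset.card_le_two (by norm_num))
    simp only [Finset.mem_insert, Finset.mem_singleton] at hu hv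
    exact ⟨u, v, hu.2, fun h => hv.2 (Or.inl h), fun h => hv.2 (Or.inr (eq_inv_of_mul_eq_one_right h))⟩
  have h1 := hinv _ huv
  rw [show (((u * v : K) : N) : G) = ((u : N) : G) * ((v : N) : G) from rfl] at h1
  have h2 : ((u : N) : G) * ((v : N) : G) * a * (((u : N) : G) * ((v : N) : G))⁻¹ = a := by
    calc _ = ((u : N) : G) * (((v : N) : G) * a * ((v : N) : G)⁻¹) * ((u : N) : G)⁻¹ := by group
      _ = a := by rw [hinv v hv, ← _root_.conj_inv, hinv u hu, inv_inv]
  rw [h2] at h1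
  have := orderOf_dvd_of_pow_eq_one (x := a) (n := 2) (by rw [pow_two, eq_inv_iff_mul_eq_one.mp h1])
  rw [ha] at this
  omega

/-- The element of order three. -/
theorem Hyp.exists_three (H : Hyp G t) (b : Basis G) :
    ∃ x : G, x ^ 3 = 1 ∧ x ≠ 1 ∧ x * b.ψ (gA2 * gA3) = b.ψ (gA2 * gA3) * x ∧
      b.ψ m1 * x * (b.ψ m1)⁻¹ = x⁻¹ ∧ (b.ψ (sv 4) * x = x * b.ψ (sv 4) ∨ b.ψ (sv 5) * x = x * b.ψ (sv 5)) := by
  have : Fact (Nat.Prime 2) := ⟨Nat.prime_two⟩
  have : Fact (Nat.Prime 3) := ⟨by norm_num⟩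
  set y := b.ψ (gA2 * gA3) with hy'
  set z := b.ψ m1 with hz'
  set a3 := b.ψ gA3 with ha3'
  have hy : orderOf y = 5 := orderOf_eq_prime (by rw [hy', ← map_pow, y_facts.1, map_one])
    (fun h => y_facts.2.1 (b.inj (h.trans (map_one b.ψ).symm)))
  have hy5 : y ^ 5 = 1 := by rw [← hy, pow_orderOf_eq_one]
  have hz : z * z = 1 := by rw [hz', ← map_mul, ← sv_one, sv_sq, map_one]
  have hz1 : z ≠ 1 := fun h => by
    have := b.inj (h.trans (map_one b.ψ).symm); revert this; decide +kernel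
  have hzy : z * y = y * z := by rw [hz', hy', ← map_mul, ← map_mul, m1_central]
  have hinv : a3 * y * a3⁻¹ = y⁻¹ := by
    rw [ha3', hy', ← map_inv, ← map_mul, ← map_mul, y_facts.2.2, map_inv]
  let C : Subgroup G := centralizer ({y} : Set G)
  have hzC : z ∈ C := mem_centralizer_singleton_iff.mpr hzy
  have hyC : y ∈ C := mem_centralizer_singleton_iff.mpr rfl
  have hzK : (⟨z, hzC⟩ : C) * ⟨z, hzC⟩ = 1 := Subtype.ext hz
  have hzK1 : (⟨z, hzC⟩ : C) ≠ 1 := fun h => hz1 (congrArg Subtype.val h)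
  have h4 : ¬ 4 ∣ Nat.card C := by
    intro h
    obtain ⟨Q, hQ⟩ := Sylow.exists_subgroup_card_pow_prime_le (G := C) 2 (n := 1) (m := 2)
      (by simpa using h) (zpowers (⟨z, hzC⟩ : C)) (by
        rw [Nat.card_zpowers, orderOf_eq_prime (by rw [pow_two]; exact hzK) hzK1, pow_one]) (by norm_num)
    have hQsq : ∀ u : Q, ((u : C) : G) * u = 1 := fun u => H.sq_of_two (k := 2) (by
      have := pow_card_eq_one' (x := u)
      rw [hQ.1] at this
      exact congrArg (fun v : Q => ((v : C) : G)) this)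
    have hzQ : (⟨z, hzC⟩ : C) ∈ Q := hQ.2 (mem_zpowers _)
    have hsub : ∀ u : Q, u = 1 ∨ u = ⟨_, hzQ⟩ := by
      intro u
      have hcomm : ((u : C) : G) * z = z * ((u : C) : G) := by
        have h1 : (((u : C) : G) * z) * (((u : C) : G) * z) = 1 := hQsq (u * ⟨_, hzQ⟩)
        rw [eq_inv_of_mul_eq_one_right h1, mul_inv_rev, inv_eq_of_mul_eq_one_right (hQsq u),
          inv_eq_of_mul_eq_one_right hz]
      obtain ⟨m, hm⟩ := b.range _ hcomm
      have hmy : m * (gA2 * gA3) = gA2 * gA3 * m := b.inj (by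
        rw [map_mul b.ψ m, map_mul b.ψ (gA2 * gA3) m, hm]; exact mem_centralizer_singleton_iff.mp (u : C).2)
      rcases (y_cent m hmy).1 (b.inj (by rw [map_mul, hm, hQsq u, map_one])) with h' | h'
      · left; refine Subtype.ext (Subtype.ext ?_); rw [← hm, h', map_one]; rfl
      · right; refine Subtype.ext (Subtype.ext ?_); rw [← hm, h']
    classical
    have := Fintype.ofFinite Q
    have h2 : (Finset.univ : Finset Q) ⊆ {1, ⟨_, hzQ⟩} := fun u _ => by simpa using hsub u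
    have h3 := (Finset.card_le_card h2).trans Finset.card_le_two
    rw [Finset.card_univ, ← Nat.card_eq_fintype_card, hQ.1] at h3
    omega
  have h10 : 10 ∣ Nat.card C := by
    have e2 : 2 ∣ Nat.card C := by
      have := orderOf_dvd_natCard (⟨z, hzC⟩ : C)
      rwa [orderOf_mk, orderOf_eq_prime (by rw [pow_two, hz]) hz1] at this
    have e5 : 5 ∣ Nat.card C := by
      have := orderOf_dvd_natCard (⟨y, hyC⟩ : C)
      rwa [orderOf_mk, hy] at this
    omega
  obtain ⟨m, hm⟩ := h10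
  set N := normalizer ((zpowers y : Subgroup G) : Set G) with hN
  have hCN : C ≤ N := fun c hc => by
    have hc' : ∀ u ∈ zpowers y, c * u * c⁻¹ = u := fun u hu => by
      obtain ⟨i, rfl⟩ := mem_zpowers_iff.mp hu
      exact mul_inv_eq_iff_eq_mul.mpr (Commute.zpow_right (mem_centralizer_singleton_iff.mp hc) i)
    refine mem_normalizer_iff.mpr fun h => ⟨fun hh => by rw [hc' h hh]; exact hh, fun hh => ?_⟩
    have h2 := hc' _ hh
    have : c * h * c⁻¹ = h := by
      calc c * h * c⁻¹ = c⁻¹ * (c * (c * h * c⁻¹) * c⁻¹) * c := by group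
        _ = c⁻¹ * (c * h * c⁻¹) * c := by rw [h2]
        _ = h := by group
    rwa [this] at hh
  have ha3N : a3 ∈ N := by
    refine mem_normalizer_iff.mpr fun h => ⟨fun hh => ?_, fun hh => ?_⟩
    · obtain ⟨i, rfl⟩ := mem_zpowers_iff.mp hh
      rw [← conj_zpow, hinv]
      exact zpow_mem (inv_mem (mem_zpowers y)) i
    · obtain ⟨i, hi⟩ := mem_zpowers_iff.mp hh
      refine mem_zpowers_iff.mpr ⟨-i, ?_⟩
      have h1 : a3 * y ^ (-i) * a3⁻¹ = a3 * h * a3⁻¹ := by rw [← conj_zpow, hinv, inv_zpow', neg_neg, hi]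
      exact mul_left_cancel (mul_right_cancel h1)
  have hy1 : y⁻¹ ≠ y := fun h => by
    have := orderOf_dvd_of_pow_eq_one (x := y) (n := 2) (by rw [pow_two]; nth_rewrite 1 [← h]; group)
    rw [hy] at this; omega
  have hidx2 : (C.subgroupOf N).index = 2 := by
    rw [index_eq_two_iff']
    refine ⟨⟨a3, ha3N⟩, fun g => ?_⟩
    simp only [mem_subgroupOf, Subgroup.coe_mul, C, mem_centralizer_singleton_iff]
    rcases H.no_four hy g.2 with h | h
    · refine Or.inr ⟨mul_inv_eq_iff_eq_mul.mp h, fun h2 => hy1 ?_⟩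
      have h3 := mul_inv_eq_iff_eq_mul.mpr h2
      rw [mul_inv_rev, show a3 * (g : G) * y * ((g : G)⁻¹ * a3⁻¹) = a3 * ((g : G) * y * (g : G)⁻¹) * a3⁻¹ by group,
        h, hinv] at h3
      exact h3
    · refine Or.inl ⟨?_, fun h2 => hy1 ?_⟩
      · refine mul_inv_eq_iff_eq_mul.mp ?_
        rw [mul_inv_rev, show a3 * (g : G) * y * ((g : G)⁻¹ * a3⁻¹) = a3 * ((g : G) * y * (g : G)⁻¹) * a3⁻¹ by group,
          h, ← _root_.conj_inv, hinv, inv_inv]
      · rw [← h]; exact mul_inv_eq_iff_eq_mul.mpr h2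
  have hNcard : Nat.card N = 2 * (10 * m) := by
    rw [← card_mul_index (C.subgroupOf N), hidx2, Nat.card_congr (subgroupOfEquivOfLe hCN).toEquiv, hm]; ring
  have hmod := index_normalizer_mod (q := 5) hy (by rw [H.order]; norm_num)
  rw [← hN] at hmod
  have hmi : m * N.index = 8778 := by
    have := (card_mul_index N).trans H.order
    rw [hNcard] at this
    nlinarith
  have hmodd : ¬ 2 ∣ m := fun h => h4 (by rw [hm]; omega)
  have hm4 : m ∣ 4389 := by
    have h : m ∣ 2 * 4389 := Dvd.intro _ hmi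
    exact (Nat.Coprime.symm ((Nat.Prime.coprime_iff_not_dvd Nat.prime_two).mpr hmodd)).dvd_of_dvd_mul_left h
  have hm5 : m % 5 = 3 := by
    have h := congrArg (· % 5) hmi
    simp only [Nat.mul_mod, hmod, mul_one, Nat.mod_mod] at h
    simpa using h
  have hCdvd : Nat.card C ∣ 175560 := H.order ▸ card_subgroup_dvd_card C
  have h7m : ¬ 7 ∣ m := by
    intro h
    obtain ⟨a, ha⟩ := exists_prime_orderOf_dvd_card' (G := C) 7 (by rw [hm]; exact h.mul_left 10)
    obtain ⟨s, hs, hs1, hsn⟩ := exists_invol_normalizer (q := 7) (by norm_num) hzK hzK1 h4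
      (fun h => by have := h.trans hCdvd; norm_num at this) ha
    have haG : orderOf (a : G) = 7 := by rw [orderOf_submonoid]; exact ha
    refine H.no_seven (a := (a : G)) (s := (s : G)) haG hy (mem_centralizer_singleton_iff.mp a.2).symm
      (congrArg Subtype.val hs) (fun h => hs1 (Subtype.ext h)) ?_
    refine mem_normalizer_iff.mpr fun g => ⟨fun hg => ?_, fun hg => ?_⟩
    · obtain ⟨i, rfl⟩ := mem_zpowers_iff.mp hg
      obtain ⟨j, hj⟩ := mem_zpowers_iff.mp ((mem_normalizer_iff.mp hsn (a ^ i)).mp (zpow_mem (mem_zpowers a) i))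
      exact mem_zpowers_iff.mpr ⟨j, by simpa using congrArg Subtype.val hj⟩
    · obtain ⟨i, hi⟩ := mem_zpowers_iff.mp hg
      have hgC : g ∈ C := by
        have : g = (s : G)⁻¹ * (a : G) ^ i * s := by rw [hi]; group
        rw [this]
        exact mul_mem (mul_mem (inv_mem s.2) (zpow_mem a.2 i)) s.2
      have hga : (⟨g, hgC⟩ : C) ∈ zpowers a := (mem_normalizer_iff.mp hsn _).mpr
        (mem_zpowers_iff.mpr ⟨i, Subtype.ext (by simpa using hi)⟩)
      obtain ⟨j, hj⟩ := mem_zpowers_iff.mp hga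
      exact mem_zpowers_iff.mpr ⟨j, by simpa using congrArg Subtype.val hj⟩
  have h3m : 3 ∣ m := (dvd_4389 m hm4 hm5).resolve_left h7m
  obtain ⟨x0, hx0⟩ := exists_prime_orderOf_dvd_card' (G := C) 3 (by rw [hm]; exact h3m.mul_left 10)
  have h9 : ¬ 3 * 3 ∣ Nat.card C := fun h => by have := h.trans hCdvd; norm_num at this
  obtain ⟨s0, hs0, hs01, hs0n⟩ := exists_invol_normalizer (q := 3) (by norm_num) hzK hzK1 h4 h9 hx0
  obtain ⟨c, -, hc⟩ := invol_conj h4 hs0 hs01 hzK hzK1 ⊤ (mem_top _) (mem_top _)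
  set x : C := c * x0 * c⁻¹ with hxdef
  have hx3 : x ^ 3 = 1 := by rw [hxdef, conj_pow, ← hx0, pow_orderOf_eq_one]; group
  have hx1 : x ≠ 1 := fun h => by rw [conj_eq_one_iff.mp h, orderOf_one] at hx0; omega
  have hnorm_c : ∀ (s : C), s ∈ normalizer ((zpowers x0 : Subgroup C) : Set C) →
      (c * s * c⁻¹) * x * (c * s * c⁻¹)⁻¹ = x ∨ (c * s * c⁻¹) * x * (c * s * c⁻¹)⁻¹ = x⁻¹ := by
    intro s hs
    have hx03 : x0 ^ 3 = 1 := by rw [← hx0, pow_orderOf_eq_one]
    have hx01 : x0 ≠ 1 := fun h => by rw [h, orderOf_one] at hx0; omega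
    have e : (c * s * c⁻¹) * x * (c * s * c⁻¹)⁻¹ = c * (s * x0 * s⁻¹) * c⁻¹ := by rw [hxdef]; group
    rcases pow_eq_self_or_inv hx03 hs with h | h | h
    · left; rw [e, h]
    · right; rw [e, h, hxdef, _root_.conj_inv]
    · exact absurd (conj_eq_one_iff.mp h) hx01
  -- `z` inverts `x`
  have hyx : (x : G) * y = y * x := mem_centralizer_singleton_iff.mp x.2
  have hzx : z * (x : G) * z⁻¹ = (x : G)⁻¹ := by
    have h := hnorm_c s0 hs0n
    rw [hc] at h
    rcases h with h | h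
    · exfalso
      have hcomm : (x : G) * z = z * x := by
        have := mul_inv_eq_iff_eq_mul.mp h
        exact (congrArg Subtype.val this).symm
      obtain ⟨q, hq⟩ := b.range _ hcomm
      obtain ⟨i, hi⟩ := (y_cent q (b.inj (by rw [map_mul b.ψ q, map_mul b.ψ (gA2 * gA3) q, hq]; exact hyx))).2
      have h10 : q ^ 10 = 1 := by
        have h5 := y_facts.1
        have hm : m1 * (gA2 * gA3) ^ i.val = (gA2 * gA3) ^ i.val * m1 := m1_central _
        rcases hi with rfl | rfl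
        · rw [← pow_mul, show i.val * 10 = 5 * (2 * i.val) by ring, pow_mul, h5, one_pow]
        · rw [(show Commute m1 ((gA2 * gA3) ^ i.val) from hm).mul_pow, ← pow_mul,
            show i.val * 10 = 5 * (2 * i.val) by ring, pow_mul (gA2 * gA3), h5, one_pow, mul_one,
            show (10 : ℕ) = 2 * 5 by norm_num, pow_mul, pow_two, ← sv_one, sv_sq, one_pow]
      have hx10 : x ^ 10 = 1 := Subtype.ext (by
        rw [SubmonoidClass.coe_pow, ← hq, ← map_pow, h10, map_one]; rfl)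
      refine hx1 ?_
      calc x = x ^ 10 * (((x ^ 3) ^ 3))⁻¹ := by group
        _ = 1 := by rw [hx10, hx3]; simp
    · exact congrArg Subtype.val h
  refine ⟨x, congrArg Subtype.val hx3, fun h => hx1 (Subtype.ext h), hyx, hzx, ?_⟩
  -- the image under `a3` spans the same subgroup
  have ha32 : a3 * a3 = 1 := by rw [ha3', ← map_mul, ← show sv 4 = gA3 from rfl, sv_sq, map_one]
  have ha3i : a3⁻¹ = a3 := inv_eq_of_mul_eq_one_right ha32
  have hx'C : a3 * (x : G) * a3⁻¹ ∈ C := by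
    refine mem_centralizer_singleton_iff.mpr ?_
    have e : (x : G) * y⁻¹ = y⁻¹ * x := (Commute.inv_right hyx)
    have hy2 : a3 * y⁻¹ * a3⁻¹ = y := by rw [← _root_.conj_inv, hinv, inv_inv]
    calc a3 * (x : G) * a3⁻¹ * y = a3 * (x : G) * a3⁻¹ * (a3 * y⁻¹ * a3⁻¹) := by rw [hy2]
      _ = a3 * ((x : G) * y⁻¹) * a3⁻¹ := by group
      _ = (a3 * y⁻¹ * a3⁻¹) * (a3 * (x : G) * a3⁻¹) := by rw [e]; group
      _ = _ := by rw [hy2]
  set x' : C := ⟨_, hx'C⟩ with hx'def
  have hza3 : z * a3 = a3 * z := by rw [hz', ha3', ← map_mul, ← map_mul, m1_central]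
  have hzx' : (⟨z, hzC⟩ : C) * x' * (⟨z, hzC⟩ : C)⁻¹ = x'⁻¹ := Subtype.ext (by
    show z * (a3 * (x : G) * a3⁻¹) * z⁻¹ = (a3 * (x : G) * a3⁻¹)⁻¹
    calc _ = (z * a3) * (x : G) * (z * a3)⁻¹ := by group
      _ = a3 * (z * (x : G) * z⁻¹) * a3⁻¹ := by rw [hza3]; group
      _ = _ := by rw [hzx, _root_.conj_inv])
  have hfac : (Nat.card C).factorization 3 = 1 := by
    have hdvd : 3 ∣ Nat.card C := hx0 ▸ orderOf_dvd_natCard x0
    obtain ⟨k, hk⟩ := hdvd
    have hk0 : k ≠ 0 := fun h => Nat.card_pos.ne' (by rw [hk, h, mul_zero] : Nat.card C = 0)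
    have hqk : ¬ 3 ∣ k := fun h => h9 (hk ▸ Nat.mul_dvd_mul_left 3 h)
    rw [hk, Nat.factorization_def _ (by norm_num : Nat.Prime 3), padicValNat.mul (by norm_num) hk0,
      padicValNat.self (by norm_num), padicValNat.eq_zero_of_not_dvd hqk]
  have hox : orderOf x = 3 := orderOf_eq_prime hx3 hx1
  have hox' : orderOf x' = 3 := by
    rw [← orderOf_submonoid, hx'def]
    show orderOf (a3 * (x : G) * a3⁻¹) = 3
    rw [← MulAut.conj_apply, MulEquiv.orderOf_eq, orderOf_submonoid, hox]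
  let P : Sylow 3 C := Sylow.ofCard (zpowers x) (by rw [Nat.card_zpowers, hox, hfac, pow_one])
  let Q : Sylow 3 C := Sylow.ofCard (zpowers x') (by rw [Nat.card_zpowers, hox', hfac, pow_one])
  obtain ⟨d, hd⟩ := MulAction.exists_smul_eq C P Q
  have hdmem : ∀ u, d * u * d⁻¹ ∈ zpowers x' ↔ u ∈ zpowers x := fun u => by
    have h := congrArg (fun R : Sylow 3 C => (R : Subgroup C)) hd
    simp only [Sylow.coe_subgroup_smul] at h
    change _ = zpowers x' at h
    rw [← h, mem_pointwise_smul_iff_inv_smul_mem, ← map_inv, MulAut.smul_def, MulAut.conj_apply, inv_inv,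
      show d⁻¹ * (d * u * d⁻¹) * d = u by group]
    exact Iff.rfl
  have hnorm' : ∀ (u w : C), u * w * u⁻¹ = w⁻¹ → u ∈ normalizer ((zpowers w : Subgroup C) : Set C) := by
    intro u w h
    refine mem_normalizer_iff.mpr fun g => ⟨fun hh => ?_, fun hh => ?_⟩
    · obtain ⟨i, rfl⟩ := mem_zpowers_iff.mp hh
      rw [← conj_zpow, h]; exact zpow_mem (inv_mem (mem_zpowers w)) i
    · obtain ⟨i, hi⟩ := mem_zpowers_iff.mp hh
      refine mem_zpowers_iff.mpr ⟨-i, ?_⟩
      have h1 : u * w ^ (-i) * u⁻¹ = u * g * u⁻¹ := by rw [← conj_zpow, h, inv_zpow', neg_neg, hi]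
      exact mul_left_cancel (mul_right_cancel h1)
  set z' : C := d * ⟨z, hzC⟩ * d⁻¹
  have hz'n : z' ∈ normalizer ((zpowers x' : Subgroup C) : Set C) := by
    refine mem_normalizer_iff.mpr fun g => ?_
    have hN' := mem_normalizer_iff.mp (hnorm' _ x (Subtype.ext hzx : (⟨z, hzC⟩ : C) * x * _ = x⁻¹)) (d⁻¹ * g * d)
    calc g ∈ zpowers x' ↔ d⁻¹ * g * d ∈ zpowers x := by rw [← hdmem (d⁻¹ * g * d)]; group
      _ ↔ _ := hN'
      _ ↔ _ := by rw [← hdmem]; simp only [z']; group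
  obtain ⟨e, heN, he⟩ := invol_conj h4 (s := z') (t := (⟨z, hzC⟩ : C))
    (by simp only [z']; rw [show d * (⟨z, hzC⟩ : C) * d⁻¹ * (d * ⟨z, hzC⟩ * d⁻¹) = d * (⟨z, hzC⟩ * ⟨z, hzC⟩) * d⁻¹ by group, hzK]; group)
    (fun h => hzK1 (conj_eq_one_iff.mp h)) hzK hzK1 (normalizer ((zpowers x' : Subgroup C) : Set C))
    hz'n (hnorm' _ _ hzx')
  have hcomm : ((e * d : C) : G) * z = z * ((e * d : C) : G) := by
    refine mul_inv_eq_iff_eq_mul.mp ?_
    have := congrArg Subtype.val he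
    simp only [z'] at this
    exact Eq.trans (by push_cast; group) this
  obtain ⟨q, hq⟩ := b.range _ hcomm
  have hqx : (e * d) * x * (e * d)⁻¹ = x ∨ (e * d) * x * (e * d)⁻¹ = x⁻¹ := by
    obtain ⟨i, hi⟩ := (y_cent q (b.inj (by
      rw [map_mul b.ψ q, map_mul b.ψ (gA2 * gA3) q, hq]; exact mem_centralizer_singleton_iff.mp (e * d).2))).2
    have hyi : y ^ i.val * (x : G) * (y ^ i.val)⁻¹ = x :=
      mul_inv_eq_iff_eq_mul.mpr (Commute.pow_left (Eq.symm hyx) i.val)
    rcases hi with rfl | rfl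
    · left; refine Subtype.ext ?_
      show ((e * d : C) : G) * (x : G) * ((e * d : C) : G)⁻¹ = (x : G)
      rw [← hq, map_pow, hyi]
    · right; refine Subtype.ext ?_
      show ((e * d : C) : G) * (x : G) * ((e * d : C) : G)⁻¹ = (x : G)⁻¹
      rw [← hq, map_mul, map_pow, show b.ψ m1 * y ^ i.val * (x : G) * (b.ψ m1 * y ^ i.val)⁻¹
        = b.ψ m1 * (y ^ i.val * (x : G) * (y ^ i.val)⁻¹) * (b.ψ m1)⁻¹ by group, hyi, hzx]
  have hmem : (e * d) * x * (e * d)⁻¹ ∈ zpowers x' := by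
    rw [show (e * d) * x * (e * d)⁻¹ = e * (d * x * d⁻¹) * e⁻¹ by group]
    exact (mem_normalizer_iff.mp heN _).mp ((hdmem x).mpr (mem_zpowers x))
  have hxmem : x ∈ zpowers x' := by
    rcases hqx with h | h <;> rw [h] at hmem
    · exact hmem
    · simpa using hmem
  obtain ⟨j, hj⟩ := mem_zpowers_iff.mp hxmem
  have hj' : (x : G) = a3 * (x : G) ^ j * a3⁻¹ := by
    rw [← conj_zpow]
    exact (congrArg Subtype.val hj).symm.trans (by push_cast; rfl)
  have hconj : a3 * (x : G) * a3⁻¹ = (x : G) ^ j := by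
    nth_rewrite 1 [hj']
    rw [ha3i, show a3 * (a3 * (x : G) ^ j * a3) * a3 = (a3 * a3) * (x : G) ^ j * (a3 * a3) by group, ha32,
      one_mul, mul_one]
  have hxG3 : (x : G) ^ 3 = 1 := congrArg Subtype.val hx3
  have hsv5 : b.ψ (sv 5) = z * a3 := map_mul b.ψ _ _
  have h := zpow_eq_zpow_emod' j hxG3
  have hj3 : j % (3 : ℕ) = 0 ∨ j % (3 : ℕ) = 1 ∨ j % (3 : ℕ) = 2 := by omega
  rcases hj3 with e' | e' | e' <;> rw [e'] at h <;> rw [h] at hconj
  · rw [zpow_zero, conj_eq_one_iff] at hconj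
    exact absurd (Subtype.ext hconj) hx1
  · left
    show b.ψ gA3 * (x : G) = x * b.ψ gA3
    exact mul_inv_eq_iff_eq_mul.mp (hconj.trans (zpow_one _))
  · right
    rw [hsv5]
    refine mul_inv_eq_iff_eq_mul.mp ?_
    rw [show z * a3 * (x : G) * (z * a3)⁻¹ = z * (a3 * (x : G) * a3⁻¹) * z⁻¹ by group, hconj, ← conj_zpow, hzx,
      zpow_two, ← mul_inv_rev, inv_eq_iff_mul_eq_one, ← pow_two, ← pow_succ, hxG3]

end Cfsg.Agent.JankoUnique
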