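/-
The involution centraliser and the element of order seven generate the group.
-/
import Cfsg.Agent.Lib.JankoUnique.Three

set_option autoImplicit false

namespace Cfsg.Agent.JankoUnique

open Cfsg Subgroup JankoOneOrder

variable {G : Type*} [Group G] [Finite G] [IsSimpleGroup G] {t : G}

theorem Hyp.gen (H : Hyp G t) (b : Basis G) : closure (Set.range b.ψ ∪ {b.n}) = ⊤ := by
  classical
  have : Fact (Nat.Prime 2) := ⟨Nat.prime_two⟩
  set M := closure (Set.range b.ψ ∪ {b.n}) with hMdef
  have hψM : ∀ m, b.ψ m ∈ M := fun m => subset_closure (Or.inl ⟨m, rfl⟩)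
  have hnM : b.n ∈ M := subset_closure (Or.inr rfl)
  set z := b.ψ m1
  have hz : z * z = 1 := by rw [← map_mul, ← sv_one, sv_sq, map_one]
  -- conjugates of `z` in the standard subgroup
  have hsv : ∀ a, a ≠ 0 → ∃ g ∈ M, g * z * g⁻¹ = b.ψ (sv a) := by
    intro a ha
    obtain ⟨i, hi⟩ := fF_trans a ha
    exact ⟨b.n ^ i.val, pow_mem hnM _, by rw [← hi, ← iter_conj b.ψ b.n fF b.conjn, sv_one]⟩
  -- every involution of `M` is conjugate to `z` inside `M`
  let ι : Fin 8 → M := fun a => ⟨b.ψ (sv a), hψM _⟩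
  have hι : Function.Injective ι := fun x y h => sv_inj x y (b.inj (congrArg Subtype.val h))
  let S : Subgroup M :=
    { carrier := Set.range ι
      one_mem' := ⟨0, Subtype.ext (by simp [ι, sv_zero])⟩
      mul_mem' := by
        rintro _ _ ⟨x, rfl⟩ ⟨y, rfl⟩
        exact ⟨bx x y, Subtype.ext (by simp [ι, sv_mul])⟩
      inv_mem' := by
        rintro _ ⟨x, rfl⟩
        refine ⟨x, (inv_eq_of_mul_eq_one_right (Subtype.ext ?_)).symm⟩
        show b.ψ (sv x) * b.ψ (sv x) = 1
        rw [← map_mul, sv_sq, map_one] }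
  have hS : Nat.card S = 8 := by
    show Nat.card ↥(Set.range ι) = 8
    rw [← Nat.card_congr (Equiv.ofInjective ι hι), Nat.card_fin]
  have hfac : (Nat.card M).factorization 2 = 3 := by
    have h8 : 2 ^ 3 ∣ Nat.card M := by
      have := card_subgroup_dvd_card S
      rwa [hS] at this
    have hdvd : Nat.card M ∣ 175560 := H.order ▸ card_subgroup_dvd_card M
    obtain ⟨k, hk⟩ := h8
    have hk0 : k ≠ 0 := fun h => Nat.card_pos.ne' (by rw [hk, h, mul_zero] : Nat.card M = 0)
    have hk2 : ¬ 2 ∣ k := fun h => by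
      have : 16 ∣ 175560 := (Nat.mul_dvd_mul_left (2 ^ 3) h).trans (hk ▸ hdvd)
      norm_num at this
    rw [hk, Nat.factorization_def _ Nat.prime_two, padicValNat.mul (by norm_num) hk0, padicValNat.prime_pow,
      padicValNat.eq_zero_of_not_dvd hk2]
  let P : Sylow 2 M := Sylow.ofCard S (by rw [hS, hfac]; norm_num)
  have hfus : ∀ s : M, (s : G) * s = 1 → (s : G) ≠ 1 → ∃ g ∈ M, g * z * g⁻¹ = (s : G) := by
    intro s hs hs1
    have hp : IsPGroup 2 (zpowers s) := IsPGroup.of_card (n := 1) (by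
      rw [Nat.card_zpowers, pow_one]
      exact orderOf_eq_prime (Subtype.ext (by rw [SubmonoidClass.coe_pow, pow_two, hs]; rfl))
        fun h => hs1 (congrArg Subtype.val h))
    obtain ⟨Q, hQ⟩ := hp.exists_le_sylow
    obtain ⟨g, hg⟩ := MulAction.exists_smul_eq M P Q
    have hmem : g⁻¹ * s * g ∈ S := by
      have h := congrArg (fun R : Sylow 2 M => (R : Subgroup M)) hg
      simp only [Sylow.coe_subgroup_smul] at h
      have h2 : s ∈ (Q : Subgroup M) := hQ (mem_zpowers s)
      rw [← h, mem_pointwise_smul_iff_inv_smul_mem, ← map_inv, MulAut.smul_def, MulAut.conj_apply, inv_inv] at h2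
      exact h2
    obtain ⟨a, ha⟩ := hmem
    have ha' : b.ψ (sv a) = (g : G)⁻¹ * (s : G) * (g : G) := by simpa [ι] using congrArg Subtype.val ha
    have ha0 : a ≠ 0 := fun h => hs1 (by
      rw [h, sv_zero, map_one] at ha'
      calc (s : G) = (g : G) * ((g : G)⁻¹ * (s : G) * (g : G)) * (g : G)⁻¹ := by group
        _ = 1 := by rw [← ha']; group)
    obtain ⟨k, hk, hk'⟩ := hsv a ha0
    refine ⟨g * k, mul_mem g.2 hk, ?_⟩
    rw [show (g : G) * k * z * ((g : G) * k)⁻¹ = (g : G) * (k * z * k⁻¹) * (g : G)⁻¹ by group, hk', ha']; group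
  have hcent : ∀ g : G, g * z = z * g → g ∈ M := fun g hg => by
    obtain ⟨m, rfl⟩ := b.range g hg
    exact hψM m
  -- the involutions of the standard subgroup fix only the base point
  have hfix : ∀ a, a ≠ 0 → ∀ x : G ⧸ M, b.ψ (sv a) • x = x → x = ((1 : G) : G ⧸ M) := by
    intro a ha x hx
    obtain ⟨k, hk, hk'⟩ := hsv a ha
    obtain ⟨g, rfl⟩ := QuotientGroup.mk_surjective x
    have hmem : g⁻¹ * b.ψ (sv a) * g ∈ M := by
      have h : ((b.ψ (sv a) * g : G) : G ⧸ M) = (g : G ⧸ M) := hx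
      have h2 := inv_mem (QuotientGroup.eq.mp h)
      rwa [mul_inv_rev, inv_inv, ← mul_assoc] at h2
    obtain ⟨l, hl, hl'⟩ := hfus ⟨_, hmem⟩ (by
      show g⁻¹ * b.ψ (sv a) * g * (g⁻¹ * b.ψ (sv a) * g) = 1
      rw [show g⁻¹ * b.ψ (sv a) * g * (g⁻¹ * b.ψ (sv a) * g) = g⁻¹ * (b.ψ (sv a) * b.ψ (sv a)) * g by group,
        ← map_mul, sv_sq, map_one]; group) (fun h => by
      have h' : g⁻¹ * b.ψ (sv a) * g⁻¹⁻¹ = 1 := by rw [inv_inv]; exact h
      exact ha (sv_inj a 0 (b.inj ((conj_eq_one_iff.mp h').trans (by rw [sv_zero, map_one])))))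
    have h3 : k⁻¹ * g * l ∈ M := by
      refine hcent _ ?_
      have hl'' : l * z * l⁻¹ = g⁻¹ * b.ψ (sv a) * g := hl'
      rw [← hk'] at hl''
      calc k⁻¹ * g * l * z = k⁻¹ * g * (l * z * l⁻¹) * l := by group
        _ = z * (k⁻¹ * g * l) := by rw [hl'']; group
    refine QuotientGroup.eq.mpr ?_
    have hg : g ∈ M := by
      have h4 := mul_mem (mul_mem hk h3) (inv_mem hl)
      rwa [show k * (k⁻¹ * g * l) * l⁻¹ = g by group] at h4
    simpa using inv_mem hg
  -- eight divides the index minus one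
  let φ : Fin 8 → G := fun a => b.ψ (sv a)
  let E : Subgroup G := S.map M.subtype
  have hE : Nat.card E = 8 := by rw [← hS]; exact Nat.card_congr (S.equivMapOfInjective _ M.subtype_injective).toEquiv.symm
  have hi8 : M.index % 8 = 1 := by
    have hcount : ∀ e : E, e ≠ 1 → Nat.card (MulAction.fixedBy (G ⧸ M) e) = 1 := by
      intro e he
      obtain ⟨u, ⟨a, rfl⟩, hu⟩ := mem_map.mp e.2
      have hu' : b.ψ (sv a) = (e : G) := hu
      have ha : a ≠ 0 := fun h => he (Subtype.ext (by rw [← hu', h, sv_zero, map_one]; rfl))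
      have : MulAction.fixedBy (G ⧸ M) e = {((1 : G) : G ⧸ M)} := by
        ext x
        simp only [MulAction.mem_fixedBy, Set.mem_singleton_iff]
        show (e : G) • x = x ↔ x = ((1 : G) : G ⧸ M)
        rw [← hu']
        refine ⟨hfix a ha x, ?_⟩
        rintro rfl
        exact QuotientGroup.eq.mpr (by simpa using inv_mem (hψM (sv a)))
      rw [this]
      exact Nat.card_unique
    have := Fintype.ofFinite E
    have := Fintype.ofFinite (G ⧸ M)
    have h := MulAction.sum_card_fixedBy_eq_card_orbits_mul_card_group E (G ⧸ M)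
    simp only [← Nat.card_eq_fintype_card] at h
    rw [hE, ← Finset.add_sum_erase _ _ (Finset.mem_univ (1 : E)), Finset.sum_congr rfl fun e he =>
      hcount e (Finset.ne_of_mem_erase he), Finset.sum_const, Finset.card_erase_of_mem (Finset.mem_univ _),
      Finset.card_univ, ← Nat.card_eq_fintype_card, hE] at h
    have h1 : Nat.card (MulAction.fixedBy (G ⧸ M) (1 : E)) = M.index := by
      rw [Subgroup.index, MulAction.fixedBy, show {x : G ⧸ M | (1 : E) • x = x} = Set.univ by ext; simp,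
        Nat.card_congr (Equiv.Set.univ _)]
    rw [h1] at h
    simp only [smul_eq_mul] at h
    omega
  -- the centraliser has order 120
  have h120 : 120 ∣ Nat.card M := by
    let f : Mdl →* M := b.ψ.codRestrict M hψM
    have hf : Function.Injective f := fun x y h => b.inj (congrArg Subtype.val h)
    rw [← card_mdl, Nat.card_congr (MonoidHom.ofInjective hf).toEquiv]
    exact card_subgroup_dvd_card f.range
  obtain ⟨q, hq⟩ := h120
  have hmul : q * M.index = 1463 := by
    have := (card_mul_index M).trans H.order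
    rw [hq, mul_assoc] at this
    omega
  have hidx : M.index = 1 ∨ M.index = 209 := by
    have h := Nat.mem_divisors.mpr ⟨Dvd.intro_left q hmul, by norm_num⟩
    have : ∀ d ∈ Nat.divisors 1463, d % 8 = 1 → d = 1 ∨ d = 209 := by decide +kernel
    exact this _ h hi8
  rcases hidx with h | h
  · exact index_eq_one.mp h
  exfalso
  have hq7 : q = 7 := by rw [h] at hmul; omega
  let zM : M := ⟨z, hψM _⟩
  have hcl := Char.card_conjugates_mul_card_centralizer (G := M) zM
  have hC : Nat.card (centralizer ({zM} : Set M)) = 120 := by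
    rw [← card_mdl]
    refine (Nat.card_congr (Equiv.ofBijective (fun m => (⟨⟨b.ψ m, hψM m⟩, ?_⟩ : centralizer ({zM} : Set M)))
      ⟨fun x y hxy => b.inj (congrArg (fun v : centralizer ({zM} : Set M) => ((v : M) : G)) hxy),
        fun v => ?_⟩)).symm
    · exact mem_centralizer_singleton_iff.mpr (Subtype.ext (by
        show b.ψ m * b.ψ m1 = b.ψ m1 * b.ψ m
        rw [← map_mul, ← map_mul, m1_central]))
    · obtain ⟨m, hm⟩ := b.range _ (congrArg Subtype.val (mem_centralizer_singleton_iff.mp v.2))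
      exact ⟨m, Subtype.ext (Subtype.ext hm)⟩
  rw [hC, hq, hq7] at hcl
  have h8 : 8 ≤ Nat.card {y : M | IsConj zM y} := by
    refine le_trans invol_count ?_
    rw [← Nat.card_eq_fintype_card]
    refine Nat.card_le_card_of_injective (fun m => ⟨⟨b.ψ m.1, hψM _⟩, ?_⟩) fun x y hxy =>
      Subtype.ext (b.inj (congrArg (fun v : {y : M | IsConj zM y} => ((v : M) : G)) hxy))
    obtain ⟨g, hg, hg'⟩ := hfus ⟨b.ψ m.1, hψM _⟩
      (by show b.ψ _ * b.ψ _ = 1; rw [← map_mul, m.2.1, map_one])
      (fun e => m.2.2 (b.inj (e.trans (map_one b.ψ).symm)))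
    exact isConj_iff.mpr ⟨⟨g, hg⟩, Subtype.ext hg'⟩
  omega

end Cfsg.Agent.JankoUnique
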