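/-
Uniqueness of the group of order 175560 with the local structure of Janko's first group.
Main result: `Hyp.nonempty_mulEquiv`.
-/
import Cfsg.Agent.Lib.JankoUnique.Eval
import Cfsg.Agent.Lib.JankoUnique.Gen
import Cfsg.Agent.Lib.JankoUnique.CaseA
import Cfsg.Agent.Lib.JankoUnique.CaseB
import Cfsg.Agent.Lib.JankoUnique.CaseC
import Cfsg.Agent.Lib.JankoUnique.CaseD
import Cfsg.Agent.Lib.JankoUnique.CoxA
import Cfsg.Agent.Lib.JankoUnique.CoxB
import Cfsg.Agent.Lib.JankoUnique.CaseTable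

set_option autoImplicit false
set_option synthInstance.maxSize 2048
set_option synthInstance.maxHeartbeats 200000

namespace Cfsg.Agent.JankoUnique

open Cfsg Subgroup JankoOneOrder

def confA : Conf := ⟨6, 2, gA2, [2], [0, 2]⟩
def confB : Conf := ⟨6, 2, gA3 * gA2 * gA3, [3, 2, 3], [0, 2]⟩
def confC : Conf := ⟨2, 7, m1 * (gA1 * gA2 * gA3 * gA2 * gA1), [0, 1, 2, 3, 2, 1], [2]⟩
def confD : Conf := ⟨2, 7, m1 * (gA2 * gA3 * gA2), [0, 2, 3, 2], [2]⟩

/-- The possible positions. -/
theorem conf_cases (c₁ c₂ : Conf) (h : (c₁ = confA ∧ c₂ = confB) ∨ (c₁ = confC ∧ c₂ = confD)) :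
    ∀ w : Mdl, w * w = 1 → w ≠ sv c₁.s → (w * sv c₁.s) ^ 3 = 1 →
      w = c₁.w ∨ w = sv c₁.s * c₁.w * sv c₁.s ∨ w = c₂.w ∨ w = sv c₁.s * c₂.w * sv c₁.s := by
  rcases h with ⟨rfl, rfl⟩ | ⟨rfl, rfl⟩ <;> decide +kernel

variable {G : Type*} [Group G] [Finite G] {t : G}

/-- The properties of the fourth generator. -/
structure Fourth (b : Basis G) (u : Fin 8) (cm : Mdl) (r : G) : Prop where
  sq : r * r = 1
  ne : r ≠ b.ψ m1
  three : (r * b.ψ m1) ^ 3 = 1
  cm : r * b.ψ cm = b.ψ cm * r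
  cu : r * b.ψ (sv u) = b.ψ (sv u) * r

omit [Finite G] in
theorem Fourth.conj {b : Basis G} {u : Fin 8} {cm : Mdl} {r : G} (F : Fourth b u cm r) :
    Fourth b u cm (b.ψ m1 * r * b.ψ m1) := by
  have hz : b.ψ m1 * b.ψ m1 = 1 := by rw [← map_mul, ← sv_one, sv_sq, map_one]
  have hzi : (b.ψ m1)⁻¹ = b.ψ m1 := inv_eq_of_mul_eq_one_right hz
  set z := b.ψ m1 with hz'
  have hcomm : ∀ x : Mdl, r * b.ψ x = b.ψ x * r → z * r * z * b.ψ x = b.ψ x * (z * r * z) := by
    intro x hx
    have h1 : z * b.ψ x = b.ψ x * z := by rw [hz', ← map_mul, ← map_mul, m1_central]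
    calc z * r * z * b.ψ x = z * r * (z * b.ψ x) := by group
      _ = z * (r * b.ψ x) * z := by rw [h1]; group
      _ = (z * b.ψ x) * r * z := by rw [hx]; group
      _ = b.ψ x * (z * r * z) := by rw [h1]; group
  refine ⟨?_, ?_, ?_, hcomm _ F.cm, hcomm _ F.cu⟩
  · calc z * r * z * (z * r * z) = z * r * (z * z) * r * z := by group
      _ = z * (r * r) * z := by rw [hz]; group
      _ = 1 := by rw [F.sq, mul_one, hz]
  · intro h
    apply F.ne
    calc r = (z * z) * r * (z * z) := by rw [hz, one_mul, mul_one]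
      _ = z * (z * r * z) * z := by group
      _ = z := by rw [h, hz, one_mul]
  · calc (z * r * z * z) ^ 3 = (z * (r * z) * z⁻¹) ^ 3 := by rw [hzi]; group
      _ = 1 := by rw [conj_pow, F.three]; group

/-- The conclusion of the case analysis. -/
structure Good (G : Type*) [Group G] (b : Basis G) : Prop where
  pos : Pos G b confA
  ne : b.r0 confA ≠ b.ψ m1

omit [Finite G] in
/-- An element fixing the base coset lies in the centraliser. -/
theorem mem_range_of_fixed (b : Basis G) {g : G}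
    (h : g • ((1 : G) : G ⧸ b.ψ.range) = ((1 : G) : G ⧸ b.ψ.range)) : g ∈ b.ψ.range := by
  have h' : ((g * 1 : G) : G ⧸ b.ψ.range) = ((1 : G) : G ⧸ b.ψ.range) := h
  simpa using QuotientGroup.eq.mp h'

omit [Finite G] in
theorem sub_model (b : Basis G) (c : Conf) : ∀ g ∈ [0, 1, 2, 3],
    (b.gen c g)⁻¹ • ((1 : G) : G ⧸ b.ψ.range) = ((1 : G) : G ⧸ b.ψ.range) := by
  have key : ∀ m, (b.ψ m)⁻¹ • ((1 : G) : G ⧸ b.ψ.range) = ((1 : G) : G ⧸ b.ψ.range) := fun m => by
    show (((b.ψ m)⁻¹ * 1 : G) : G ⧸ b.ψ.range) = _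
    exact QuotientGroup.eq.mpr (by simp)
  intro g hg
  simp only [List.mem_cons, List.not_mem_nil, or_false] at hg
  rcases hg with rfl | rfl | rfl | rfl <;> exact key _

omit [Finite G] in
theorem collapse (b : Basis G) (c : Conf) (D : Cert)
    (hinv : ∀ g : Fin 8, D.invl g.val = invLetter g.val) (hok : (D.rels.all (okWord c)) = true)
    (hsubs : D.subs = [0, 1, 2, 3])
    (hloop : D.Model (fun g => (b.gen c g)⁻¹) ((1 : G) : G ⧸ b.ψ.range) →
      Cert.act (fun g => (b.gen c g)⁻¹) [5] ((1 : G) : G ⧸ b.ψ.range) = ((1 : G) : G ⧸ b.ψ.range))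
    (P : Pos G b c) : False := by
  have M : D.Model (fun g => (b.gen c g)⁻¹) ((1 : G) : G ⧸ b.ψ.range) :=
    model_of_ok P D hinv hok (hsubs ▸ sub_model b c)
  have h : (b.n)⁻¹ • ((1 : G) : G ⧸ b.ψ.range) = ((1 : G) : G ⧸ b.ψ.range) := hloop M
  obtain ⟨m, hm⟩ := inv_mem (mem_range_of_fixed b h)
  rw [inv_inv] at hm
  have h1 := b.conjn 1
  rw [← hm, sv_one, ← map_mul, m1_central m |>.symm, map_mul, mul_inv_cancel_right] at h1
  exact absurd (b.inj h1) (by decide +kernel)

variable [IsSimpleGroup G]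

theorem Hyp.exists_good (H : Hyp G t) (b : Basis G) : Good G b := by
  obtain ⟨x, hx3, hx1, hxy, hzx, hu⟩ := H.exists_three b
  set z := b.ψ m1 with hz'
  have hz : z * z = 1 := by rw [hz', ← map_mul, ← sv_one, sv_sq, map_one]
  have hzi : z⁻¹ = z := inv_eq_of_mul_eq_one_right hz
  have hzy : z * b.ψ (gA2 * gA3) = b.ψ (gA2 * gA3) * z := by rw [hz', ← map_mul, ← map_mul, m1_central]
  -- the fourth generator for either choice of `u`
  have hF : ∀ (u : Fin 8) (cm : Mdl), b.ψ (sv u) * x = x * b.ψ (sv u) → cm = gA2 * gA3 * sv u →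
      Fourth b u cm (x * z) := by
    intro u cm hux hcm
    have hzu : z * b.ψ (sv u) = b.ψ (sv u) * z := by rw [hz', ← map_mul, ← map_mul, m1_central]
    have c1 : x * z * b.ψ (sv u) = b.ψ (sv u) * (x * z) := by
      rw [mul_assoc, hzu, ← mul_assoc, ← hux, mul_assoc]
    have c2 : x * z * b.ψ (gA2 * gA3) = b.ψ (gA2 * gA3) * (x * z) := by
      rw [mul_assoc, hzy, ← mul_assoc, hxy, mul_assoc]
    refine ⟨?_, ?_, ?_, ?_, c1⟩
    · calc x * z * (x * z) = x * (z * x * z⁻¹) * (z * z) := by group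
        _ = 1 := by rw [hzx, hz, mul_inv_cancel, one_mul]
    · intro h; exact hx1 (mul_eq_right.mp h)
    · rw [mul_assoc, ← hz', hz, mul_one, hx3]
    · rw [hcm, map_mul]
      calc x * z * (b.ψ (gA2 * gA3) * b.ψ (sv u)) = (x * z * b.ψ (gA2 * gA3)) * b.ψ (sv u) := by group
        _ = b.ψ (gA2 * gA3) * (x * z * b.ψ (sv u)) := by rw [c2]; group
        _ = _ := by rw [c1]; group
  -- the position attached to a choice
  have hpos : ∀ (u : Fin 8) (cm : Mdl) (c₁ c₂ : Conf),
      ((c₁ = confA ∧ c₂ = confB) ∨ (c₁ = confC ∧ c₂ = confD)) → ∀ r, Fourth b u cm r →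
      fF^[c₁.k] 1 = u → mdlWord c₁.cl = some cm → cm * cm = 1 →
      (Pos G b c₁ ∧ b.r0 c₁ ≠ z) ∨ (Pos G b c₂ ∧ b.r0 c₂ ≠ z) := by
    intro u cm c₁ c₂ hc r F hku hcl hcm2
    have hk : c₁.k ≤ 7 ∧ fF^[c₁.k] c₁.s = 1 ∧ c₂.k = c₁.k ∧ c₂.cl = c₁.cl := by
      rcases hc with ⟨rfl, rfl⟩ | ⟨rfl, rfl⟩ <;> decide +kernel
    obtain ⟨hk7, hks, hk2, hcl2⟩ := hk
    set N := b.n ^ c₁.k
    have hN1 : N * z * N⁻¹ = b.ψ (sv u) := by
      rw [hz', ← sv_one, iter_conj b.ψ b.n fF b.conjn, hku]
    have hNs : N * b.ψ (sv c₁.s) * N⁻¹ = z := by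
      rw [iter_conj b.ψ b.n fF b.conjn, hks, sv_one]
    obtain ⟨w, hw⟩ := b.range (N⁻¹ * r * N) (by
      calc N⁻¹ * r * N * z = N⁻¹ * (r * (N * z * N⁻¹)) * N := by group
        _ = N⁻¹ * ((N * z * N⁻¹) * r) * N := by rw [hN1, F.cu]
        _ = z * (N⁻¹ * r * N) := by group)
    have hr : r = N * b.ψ w * N⁻¹ := by rw [hw]; group
    have hz'' : N * b.ψ (sv c₁.s) * N⁻¹ = b.ψ m1 := hNs
    have hw2 : w * w = 1 := b.inj (by
      rw [map_mul, hw, map_one, show N⁻¹ * r * N * (N⁻¹ * r * N) = N⁻¹ * (r * r) * N by group, F.sq]; group)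
    have hws : w ≠ sv c₁.s := fun h => F.ne (by rw [hr, h, hz''])
    have hw3 : (w * sv c₁.s) ^ 3 = 1 := b.inj (by
      have h := F.three
      rw [hr, ← hz'', show N * b.ψ w * N⁻¹ * (N * b.ψ (sv c₁.s) * N⁻¹)
        = N * b.ψ (w * sv c₁.s) * N⁻¹ by rw [map_mul]; group, conj_pow, conj_eq_one_iff] at h
      rw [map_pow, h, map_one])
    have hmk : ∀ (c : Conf) (r' : G), c.k = c₁.k → c.cl = c₁.cl → c.w * c.w = 1 → mdlWord c.wl = some c.w →
        Fourth b u cm r' → r' = N * b.ψ c.w * N⁻¹ → Pos G b c ∧ b.r0 c ≠ z := by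
      intro c r' e1 e2 e3 e4 F' hr'
      have e : b.r0 c = r' := by rw [hr', Basis.r0, e1]
      refine ⟨⟨e1 ▸ hk7, e3, e4, fun m hm => ?_, ⟨cm, e2 ▸ hcl, hcm2⟩⟩, e ▸ F'.ne⟩
      rw [e2, hcl, Option.some.injEq] at hm
      rw [e, ← hm]
      exact F'.cm
    have hconj : ∀ v : Mdl, w = sv c₁.s * v * sv c₁.s → b.ψ m1 * r * b.ψ m1 = N * b.ψ v * N⁻¹ := by
      intro v hv
      have hh : b.ψ (sv c₁.s) * b.ψ (sv c₁.s) = 1 := by rw [← map_mul, sv_sq, map_one]
      rw [← hz'', hr, hv, map_mul, map_mul]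
      calc _ = N * ((b.ψ (sv c₁.s) * b.ψ (sv c₁.s)) * b.ψ v * (b.ψ (sv c₁.s) * b.ψ (sv c₁.s))) * N⁻¹ := by group
        _ = _ := by rw [hh, one_mul, mul_one]
    have hwl : c₁.w * c₁.w = 1 ∧ mdlWord c₁.wl = some c₁.w ∧ c₂.w * c₂.w = 1 ∧ mdlWord c₂.wl = some c₂.w := by
      rcases hc with ⟨rfl, rfl⟩ | ⟨rfl, rfl⟩ <;> decide +kernel
    obtain ⟨a1, a2, a3, a4⟩ := hwl
    rcases conf_cases c₁ c₂ hc w hw2 hws hw3 with h | h | h | h
    · exact Or.inl (hmk c₁ r rfl rfl a1 a2 F (h ▸ hr))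
    · exact Or.inl (hmk c₁ _ rfl rfl a1 a2 F.conj (hconj _ h))
    · exact Or.inr (hmk c₂ r hk2 hcl2 a3 a4 F (h ▸ hr))
    · exact Or.inr (hmk c₂ _ hk2 hcl2 a3 a4 F.conj (hconj _ h))
  rcases hu with hu | hu
  · exfalso
    rcases hpos 4 gA2 confC confD (Or.inr ⟨rfl, rfl⟩) (x * z) (hF 4 gA2 hu (by decide +kernel)) (by decide +kernel)
      (by decide +kernel) (by decide +kernel) with h | h
    · exact collapse b confC CaseC.cert (by decide +kernel) (by decide +kernel) rfl CaseC.loop h.1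
    · exact collapse b confD CaseD.cert (by decide +kernel) (by decide +kernel) rfl CaseD.loop h.1
  · rcases hpos 5 (m1 * gA2) confA confB (Or.inl ⟨rfl, rfl⟩) (x * z) (hF 5 _ hu (by decide +kernel))
      (by decide +kernel) (by decide +kernel) (by decide +kernel) with h | h
    · exact ⟨h.1, h.2⟩
    · exact absurd (collapse b confB CaseB.cert (by decide +kernel) (by decide +kernel) rfl CaseB.loop h.1) id

/-- Translation of a letter of the table. -/
def trLetter : ℕ → List ℕ
  | 0 => [4]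
  | 1 => [0, 1]
  | 2 => [0, 2]
  | 3 => [0, 3]
  | 4 => [0]
  | _ => []

/-- Translation of a word of the table. -/
def trWord (w : List ℕ) : List ℕ := w.flatMap trLetter

/-- Accepted relators of the table. -/
def okTable (w : List ℕ) : Bool :=
  okWord confA (trWord w) || (decide (trWord w = CaseA.loopWord) || (okWord confA (trWord w.reverse) ||
    decide (trWord w.reverse = CaseA.loopWord)))

omit [Finite G] [IsSimpleGroup G] in
theorem trLetter_sq {b : Basis G} (P : Pos G b confA) : ∀ g : ℕ,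
    b.ev confA (trLetter g) * b.ev confA (trLetter g) = 1
  | 0 => by show b.r0 confA * 1 * (b.r0 confA * 1) = 1; rw [mul_one, P.r0_sq]
  | 1 => by rw [mdlWord_sound b confA (trLetter 1) (m1 * gA1) (by decide +kernel), ← map_mul,
      show m1 * gA1 * (m1 * gA1) = 1 by decide +kernel, map_one]
  | 2 => by rw [mdlWord_sound b confA (trLetter 2) (m1 * gA2) (by decide +kernel), ← map_mul,
      show m1 * gA2 * (m1 * gA2) = 1 by decide +kernel, map_one]
  | 3 => by rw [mdlWord_sound b confA (trLetter 3) (m1 * gA3) (by decide +kernel), ← map_mul,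
      show m1 * gA3 * (m1 * gA3) = 1 by decide +kernel, map_one]
  | 4 => by rw [mdlWord_sound b confA (trLetter 4) m1 (by decide +kernel), ← map_mul,
      show m1 * m1 = 1 by decide +kernel, map_one]
  | n + 5 => by show (1 : G) * 1 = 1; rw [mul_one]

omit [Finite G] [IsSimpleGroup G] in
theorem ev_trWord_reverse {b : Basis G} (P : Pos G b confA) : ∀ w : List ℕ,
    b.ev confA (trWord w.reverse) = (b.ev confA (trWord w))⁻¹
  | [] => inv_one.symm
  | g :: w => by
    simp only [trWord, List.reverse_cons, List.flatMap_append, List.flatMap_cons, List.flatMap_nil,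
      List.append_nil, Basis.ev_append]
    have h := ev_trWord_reverse P w
    simp only [trWord] at h
    rw [h, mul_inv_rev, ← eq_inv_of_mul_eq_one_right (trLetter_sq P g)]

omit [Finite G] [IsSimpleGroup G] in
theorem Good.word_one {b : Basis G} (h : Good G b) : b.ev confA CaseA.loopWord = 1 := by
  have P := h.pos
  set W := b.ev confA CaseA.loopWord with hW
  set r1 := b.ψ (m1 * gA1) with hr1
  set r2 := b.ψ (m1 * gA2) with hr2
  set r := b.r0 confA with hr
  have hW' : W = (r * r1 * r2) ^ 5 := by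
    rw [hW, hr1, hr2, map_mul, map_mul, pow_succ, pow_succ, pow_succ, pow_succ, pow_one]
    simp only [CaseA.loopWord, Basis.ev, Basis.gen, mul_one, mul_assoc, hr]
  -- the Coxeter relations
  have M0 : CaseA.cert.Model (fun g => (b.gen confA g)⁻¹) ((1 : G) : G ⧸ b.ψ.range) :=
    model_of_ok P CaseA.cert (by decide +kernel) (by decide +kernel) (sub_model b confA)
  have hmem : W ∈ b.ψ.range := by
    have hl := CaseA.loop M0
    rw [act_inv, map_prod_eq] at hl
    simpa using inv_mem (mem_range_of_fixed b hl)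
  obtain ⟨m, hm⟩ := hmem
  let f : ℕ → G := fun g => match g with
    | 0 => r
    | 1 => r1
    | 2 => r2
    | _ => 1
  have hf : ∀ g, f g * f g = 1 := by
    intro g
    match g with
    | 0 => exact P.r0_sq
    | 1 => show r1 * r1 = 1; rw [hr1, ← map_mul, show m1 * gA1 * (m1 * gA1) = 1 by decide +kernel, map_one]
    | 2 => show r2 * r2 = 1; rw [hr2, ← map_mul, show m1 * gA2 * (m1 * gA2) = 1 by decide +kernel, map_one]
    | n + 3 => exact one_mul 1
  have hfi : ∀ g, (f g)⁻¹ = f g := fun g => inv_eq_of_mul_eq_one_right (hf g)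
  have e01 : (r * r1) * ((r * r1) * ((r * r1) * ((r * r1) * ((r * r1) * 1)))) = 1 := by
    have hh := frameWord_sound b confA P.hk [4, 0, 1, 4, 0, 1, 4, 0, 1, 4, 0, 1, 4, 0, 1] 1 (by decide +kernel)
    rw [map_one, mul_one, mul_inv_cancel] at hh
    rw [hr1, map_mul]
    simpa only [Basis.ev, Basis.gen, mul_one, mul_assoc] using hh
  have e02 : (r * r2) * ((r * r2) * 1) = 1 := by
    have hh := P.comm _ (by decide +kernel : mdlWord confA.cl = some (m1 * gA2))
    rw [← hr2] at hh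
    rw [mul_one]
    calc r * r2 * (r * r2) = r * (r2 * r) * r2 := by group
      _ = (r * r) * (r2 * r2) := by rw [← (show r * r2 = r2 * r from hh)]; group
      _ = 1 := by rw [hr, P.r0_sq, one_mul]; exact hf 2
  have e12 : (r1 * r2) * ((r1 * r2) * ((r1 * r2) * 1)) = 1 := by
    rw [hr1, hr2, mul_one, ← map_mul, ← map_mul, ← map_mul,
      show m1 * gA1 * (m1 * gA2) * (m1 * gA1 * (m1 * gA2) * (m1 * gA1 * (m1 * gA2))) = 1 by decide +kernel, map_one]
  have hcoxrel : ∀ w ∈ [[0, 0], [1, 1], [2, 2], [0, 1, 0, 1, 0, 1, 0, 1, 0, 1], [1, 2, 1, 2, 1, 2],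
      [0, 2, 0, 2]], (w.map f).prod = 1 := by
    intro w hw
    simp only [List.mem_cons, List.not_mem_nil, or_false] at hw
    rcases hw with rfl | rfl | rfl | rfl | rfl | rfl <;>
      simp only [List.map_cons, List.map_nil, List.prod_cons, List.prod_nil]
    · rw [mul_one]; exact hf 0
    · rw [mul_one]; exact hf 1
    · rw [mul_one]; exact hf 2
    · simpa only [mul_assoc, f] using e01
    · simpa only [mul_assoc, f] using e12
    · simpa only [mul_assoc, f] using e02
  have hrev : ∀ w : List ℕ, (w.reverse.map f).prod = ((w.map f).prod)⁻¹ := fun w => by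
    induction w with
    | nil => simp
    | cons g w ih =>
      rw [List.reverse_cons, List.map_append, List.prod_append, ih]
      simp [hfi]
  have hmodel : ∀ (D : Cert), (∀ g : Fin 8, D.invl g.val = g.val) → D.subs = [] →
      (D.rels.all fun w => [[0, 0], [1, 1], [2, 2], [0, 1, 0, 1, 0, 1, 0, 1, 0, 1], [1, 2, 1, 2, 1, 2],
        [0, 2, 0, 2]].contains w || ([[0, 0], [1, 1], [2, 2], [0, 1, 0, 1, 0, 1, 0, 1, 0, 1], [1, 2, 1, 2, 1, 2],
        [0, 2, 0, 2]].contains w.reverse || w.all fun g => (Nat.ble 3 g && decide (w.length ≤ 2)))) = true →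
      D.Model (fun g => (f g)⁻¹) (1 : G) := by
    intro D hi hs hok
    refine ⟨inv_one, fun g hg => ?_, fun w hw x => ?_, fun g hg => by rw [hs] at hg; simp at hg, fun g hg => ?_⟩
    · rw [hi ⟨g, hg⟩, ← mul_inv_rev, inv_eq_one]; exact hf g
    · rw [act_inv]
      have := List.all_eq_true.mp hok w hw
      simp only [Bool.or_eq_true, List.contains_iff_mem] at this
      have hone : (w.map f).prod = 1 := by
        rcases this with h' | h' | h'
        · exact hcoxrel w h'
        · have := hcoxrel _ h'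
          rwa [hrev, inv_eq_one] at this
        · refine List.prod_eq_one fun y hy => ?_
          obtain ⟨g, hg, rfl⟩ := List.mem_map.mp hy
          have h3 := List.all_eq_true.mp h' g hg
          simp only [Bool.and_eq_true, Nat.ble_eq] at h3
          obtain ⟨k, rfl⟩ := Nat.exists_eq_add_of_le h3.1
          rw [Nat.add_comm]
          rfl
      rw [hone, inv_one, one_smul]
    · obtain ⟨k, rfl⟩ := Nat.exists_eq_add_of_le hg
      rw [show 8 + k = (k + 5) + 3 by omega]
      exact inv_one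
  have hWf : W = (([0, 1, 2, 0, 1, 2, 0, 1, 2, 0, 1, 2, 0, 1, 2] : List ℕ).map f).prod := by
    rw [hW', pow_succ, pow_succ, pow_succ, pow_succ, pow_one]
    simp only [List.map_cons, List.map_nil, List.prod_cons, List.prod_nil, mul_one, mul_assoc, f]
  have hcg : ∀ g, Cert.act (fun g => (f g)⁻¹) (([0, 1, 2, 0, 1, 2, 0, 1, 2, 0, 1, 2, 0, 1, 2] : List ℕ) ++ [g] ++
      ([0, 1, 2, 0, 1, 2, 0, 1, 2, 0, 1, 2, 0, 1, 2] : List ℕ).reverse ++ [g]) (1 : G) = 1 → W * f g = f g * W := by
    intro g hg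
    rw [act_inv, smul_eq_mul, mul_one, inv_eq_one, List.map_append, List.map_append, List.map_append,
      List.prod_append, List.prod_append, List.prod_append, hrev, ← hWf, List.map_singleton,
      List.prod_singleton] at hg
    calc W * f g = (W * f g * W⁻¹ * f g) * (f g)⁻¹ * W := by group
      _ = f g * W := by rw [hg, one_mul, hfi]
  have h0 : W * r = r * W :=
    hcg 0 (CoxA.loop (hmodel CoxA.cert (by decide +kernel) rfl (by decide +kernel)))
  have h1 : W * r1 = r1 * W :=
    hcg 1 (CoxB.loop (hmodel CoxB.cert (by decide +kernel) rfl (by decide +kernel)))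
  have h2 : W * r2 = r2 * W := by
    have hc : Commute W (r * r1 * r2) := by rw [hW']; exact Commute.pow_self _ 5
    have hrr : Commute W ((r * r1)⁻¹ * (r * r1 * r2)) :=
      ((Commute.mul_right h0 h1).inv_right).mul_right hc
    rwa [inv_mul_cancel_left] at hrr
  rw [← hm] at h1 h2
  have hmm : ∀ x : Mdl, x * (m1 * gA1) = m1 * gA1 * x → x * (m1 * gA2) = m1 * gA2 * x → x = 1 ∨ x = m1 := by
    decide +kernel
  rcases hmm m (b.inj (by rw [map_mul, map_mul _ _ m]; exact h1)) (b.inj (by rw [map_mul, map_mul _ _ m]; exact h2))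
    with rfl | rfl
  · rw [← hm, map_one]
  · exfalso
    apply h.ne
    rw [← hm] at h0
    have h3 : (r * b.ψ m1) ^ 3 = 1 := by
      have hh := frameWord_sound b confA P.hk [4, 0, 4, 0, 4, 0] 1 (by decide +kernel)
      rw [map_one, mul_one, mul_inv_cancel] at hh
      rw [pow_succ, pow_two, hr]
      simpa only [Basis.ev, Basis.gen, mul_one, mul_assoc] using hh
    have hzz : b.ψ m1 * b.ψ m1 = 1 := by rw [← map_mul, ← sv_one, sv_sq, map_one]
    rw [Commute.mul_pow h0.symm, pow_succ r, pow_succ (b.ψ m1), pow_two, pow_two, hr, P.r0_sq, hzz, one_mul,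
      one_mul] at h3
    calc b.r0 confA = b.r0 confA * (b.ψ m1 * b.ψ m1) := by rw [hzz, mul_one]
      _ = b.ψ m1 := by rw [← mul_assoc, h3, one_mul]

omit [Finite G] [IsSimpleGroup G] in
theorem Good.table_rel {b : Basis G} (h : Good G b) (w : List ℕ) (hw : w ∈ CaseTable.cert.rels) :
    b.ev confA (trWord w) = 1 := by
  have hall : (CaseTable.cert.rels.all okTable) = true := by decide +kernel
  have := List.all_eq_true.mp hall w hw
  simp only [okTable, Bool.or_eq_true, decide_eq_true_eq] at this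
  rcases this with h' | h' | h' | h'
  · exact okWord_sound h.pos _ h'
  · rw [h', h.word_one]
  · have := okWord_sound h.pos _ h'
    rwa [ev_trWord_reverse h.pos, inv_eq_one] at this
  · have := h.word_one
    rwa [← h', ev_trWord_reverse h.pos, inv_eq_one] at this

/-- The generators used for the table. -/
def tGen (b : Basis G) (g : ℕ) : G := b.ev confA (trLetter g)

omit [Finite G] [IsSimpleGroup G] in
theorem map_tGen (b : Basis G) : ∀ w : List ℕ, (w.map (tGen b)).prod = b.ev confA (trWord w)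
  | [] => rfl
  | g :: w => by
    rw [List.map_cons, List.prod_cons, map_tGen b w]
    simp only [trWord, List.flatMap_cons, Basis.ev_append]
    rfl

theorem Hyp.tGen_generate (H : Hyp G t) {b : Basis G} (h : Good G b) :
    closure (Set.range (tGen b)) = ⊤ := by
  set M := closure (Set.range (tGen b)) with hM
  have hg : ∀ g, tGen b g ∈ M := fun g => subset_closure ⟨g, rfl⟩
  have hmdl : ∀ g < 4, b.gen confA g ∈ M := by
    have hz : b.gen confA 0 ∈ M := by simpa [tGen, trLetter, Basis.ev] using hg 4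
    intro g hg4
    interval_cases g
    · exact hz
    · have := mul_mem hz (hg 1)
      simp only [tGen, trLetter, Basis.ev, mul_one, ← mul_assoc] at this
      rwa [show b.gen confA 0 * b.gen confA 0 = 1 from gen_inv h.pos 0, one_mul] at this
    · have := mul_mem hz (hg 2)
      simp only [tGen, trLetter, Basis.ev, mul_one, ← mul_assoc] at this
      rwa [show b.gen confA 0 * b.gen confA 0 = 1 from gen_inv h.pos 0, one_mul] at this
    · have := mul_mem hz (hg 3)
      simp only [tGen, trLetter, Basis.ev, mul_one, ← mul_assoc] at this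
      rwa [show b.gen confA 0 * b.gen confA 0 = 1 from gen_inv h.pos 0, one_mul] at this
  have hψ : ∀ m, b.ψ m ∈ M := by
    intro m
    obtain ⟨w, hw, hwm⟩ := List.any_eq_true.mp (stdWords_all m)
    simp only [decide_eq_true_eq] at hwm
    rw [← mdlWord_sound b confA w m hwm]
    have hw4 : w.all (fun g => Nat.blt g 4) = true :=
      (List.all_eq_true.mp (by decide +kernel : (stdWords.all fun w => w.all fun g => Nat.blt g 4) = true)) w hw
    clear hw hwm
    induction w with
    | nil => exact one_mem M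
    | cons g w ih =>
      simp only [List.all_cons, Bool.and_eq_true, Nat.blt_eq] at hw4
      exact mul_mem (hmdl g hw4.1) (ih hw4.2)
  have hr : b.r0 confA ∈ M := by simpa [tGen, trLetter, Basis.ev, Basis.gen] using hg 0
  have hfr : b.n ^ 6 * b.ψ gV * (b.n ^ 6)⁻¹ ∈ M := by
    have e : gV = confA.w * (sv 4 * (confA.w * (sv 2 * (sv 4 * confA.w)))) := by decide +kernel
    have hs : ∀ a, b.n ^ 6 * b.ψ (sv a) * (b.n ^ 6)⁻¹ ∈ M := fun a => by
      rw [iter_conj b.ψ b.n fF b.conjn]; exact hψ _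
    have := mul_mem hr (mul_mem (hs 4) (mul_mem hr (mul_mem (hs 2) (mul_mem (hs 4) hr))))
    convert this using 1
    show _ = b.n ^ 6 * b.ψ confA.w * (b.n ^ 6)⁻¹ * _
    conv_lhs => rw [e]
    simp only [map_mul, Basis.r0, show confA.k = 6 from rfl]
    group
  have hn : b.n ∈ M := by
    have h2 := mul_mem hfr (inv_mem (hψ gV))
    convert h2 using 1
    have hv : b.ψ gV * (b.n ^ 6)⁻¹ * (b.ψ gV)⁻¹ = ((b.n ^ 2) ^ 6)⁻¹ := by
      rw [← b.vrel, conj_pow, _root_.conj_inv]
    calc b.n = b.n ^ 6 * ((b.n ^ 2) ^ 6)⁻¹ * (b.n ^ 7) := by group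
      _ = b.n ^ 6 * (b.ψ gV * (b.n ^ 6)⁻¹ * (b.ψ gV)⁻¹) := by rw [hv, b.seven, mul_one]
      _ = _ := by group
  rw [← top_le_iff, ← H.gen b, closure_le]
  rintro x (⟨m, rfl⟩ | rfl)
  · exact hψ m
  · exact hn

/-- **Uniqueness.** -/
theorem Hyp.nonempty_mulEquiv (H : Hyp G t) {G' : Type*} [Group G'] [Finite G'] [IsSimpleGroup G'] {t' : G'}
    (H' : Hyp G' t') : Nonempty (G ≃* G') := by
  classical
  obtain ⟨b⟩ := H.exists_basis
  obtain ⟨b'⟩ := H'.exists_basis
  have hb := H.exists_good b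
  have hb' := H'.exists_good b'
  let P : ℕ → G × G' := fun g => (tGen b g, tGen b' g)
  let K : Subgroup (G × G') := closure (Set.range P)
  let el : ℕ → K := fun g => (⟨P g, subset_closure ⟨g, rfl⟩⟩ : K)⁻¹
  let ι : Mdl →* G × G' := b.ψ.prod b'.ψ
  let L : Subgroup K := ι.range.comap K.subtype
  have hLcard : Nat.card L ≤ 120 := by
    rw [← card_mdl]
    refine le_trans ?_ (Nat.card_le_card_of_surjective _ ι.rangeRestrict_surjective)
    exact Nat.card_le_card_of_injective (fun l : L => (⟨((l : K) : G × G'), l.2⟩ : ι.range))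
      fun x y hxy => Subtype.ext (Subtype.ext (congrArg Subtype.val hxy :))
  have hP : ∀ g, P g * P g = 1 := fun g => Prod.ext (trLetter_sq hb.pos g) (trLetter_sq hb'.pos g)
  have hel1 : ∀ g, 5 ≤ g → el g = 1 := fun g hg => by
    obtain ⟨k, rfl⟩ := Nat.exists_eq_add_of_le hg
    rw [Nat.add_comm]
    exact inv_eq_one.mpr (Subtype.ext (Prod.ext rfl rfl))
  have hprod : ∀ w : List ℕ, (((w.map fun g => (⟨P g, subset_closure ⟨g, rfl⟩⟩ : K)).prod : K) : G × G') =
      ((w.map (tGen b)).prod, (w.map (tGen b')).prod) := fun w => by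
    induction w with
    | nil => rfl
    | cons g w ih => rw [List.map_cons, List.prod_cons, Subgroup.coe_mul, ih]; rfl
  have M : CaseTable.cert.Model el ((1 : K) : K ⧸ L) := by
    refine ⟨hel1 7 (by norm_num), fun g hg => ?_, fun w hw x => ?_, fun g hg => ?_, fun g hg => hel1 g (by omega)⟩
    · rw [(by decide +kernel : ∀ g : Fin 8, CaseTable.cert.invl g.val = g.val) ⟨g, hg⟩, ← mul_inv_rev, inv_eq_one]
      exact Subtype.ext (hP g)
    · show Cert.act (fun g => (⟨P g, subset_closure ⟨g, rfl⟩⟩ : K)⁻¹) w x = x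
      have h1 : (w.map fun g => (⟨P g, subset_closure ⟨g, rfl⟩⟩ : K)).prod = 1 := Subtype.ext (by
        rw [hprod, map_tGen, map_tGen, hb.table_rel w hw, hb'.table_rel w hw]; rfl)
      rw [act_inv, h1, inv_one, one_smul]
    · have hmem : ∀ g ∈ [1, 2, 3, 4], ∃ m, tGen b g = b.ψ m ∧ tGen b' g = b'.ψ m := by
        intro g hg
        obtain ⟨m, hm⟩ : ∃ m, mdlWord (trLetter g) = some m := by revert g; decide +kernel
        exact ⟨m, mdlWord_sound b confA _ _ hm, mdlWord_sound b' confA _ _ hm⟩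
      obtain ⟨m, h1, h2⟩ := hmem g hg
      show ((el g * 1 : K) : K ⧸ L) = ((1 : K) : K ⧸ L)
      refine QuotientGroup.eq.mpr ?_
      simp only [mul_one, el, inv_inv]
      exact ⟨m, Prod.ext h1.symm h2.symm⟩
  -- the table bounds the index
  let node : Fin 1463 → K ⧸ L := fun i => CaseTable.cert.node el ((1 : K) : K ⧸ L) i.val
  have hclosed : ∀ g x, x ∈ Set.range node → el g • x ∈ Set.range node := by
    rintro g _ ⟨i, rfl⟩
    rcases lt_or_ge g 5 with hg | hg
    · obtain ⟨d, hd, hd'⟩ := CaseTable.closed M i.2 hg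
      exact ⟨⟨d, hd⟩, hd'.symm⟩
    · rw [hel1 g hg, one_smul]; exact ⟨i, rfl⟩
  have hinv : ∀ k : G × G', ∀ hk : k ∈ K, ∀ x ∈ Set.range node, (⟨k, hk⟩ : K) • x ∈ Set.range node := by
    intro k hk
    induction hk using Subgroup.closure_induction with
    | mem k hk =>
      obtain ⟨g, rfl⟩ := hk
      intro x hx
      have e : (⟨P g, subset_closure ⟨g, rfl⟩⟩ : K) = el g :=
        (inv_eq_of_mul_eq_one_right (Subtype.ext (hP g))).symm
      rw [e]; exact hclosed g x hx
    | one => intro x hx; exact (show (1 : K) • x ∈ _ by rwa [one_smul])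
    | mul u v hu hv ihu ihv =>
      intro x hx
      show ((⟨u, hu⟩ : K) * ⟨v, hv⟩) • x ∈ _
      rw [mul_smul]; exact ihu _ (ihv x hx)
    | inv u hu ihu =>
      intro x hx
      show (⟨u, hu⟩ : K)⁻¹ • x ∈ _
      have hpow : ∀ j : ℕ, ∀ y ∈ Set.range node, (⟨u, hu⟩ : K) ^ j • y ∈ Set.range node := by
        intro j
        induction j with
        | zero => intro y hy; rwa [pow_zero, one_smul]
        | succ j ih => intro y hy; rw [pow_succ', mul_smul]; exact ihu _ (ih y hy)
      rw [show (⟨u, hu⟩ : K)⁻¹ = (⟨u, hu⟩ : K) ^ (orderOf (⟨u, hu⟩ : K) - 1) from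
        inv_eq_of_mul_eq_one_right (by
          rw [← pow_succ', Nat.sub_add_cancel (orderOf_pos _), pow_orderOf_eq_one])]
      exact hpow _ x hx
  have hidx : Nat.card (K ⧸ L) ≤ 1463 := by
    refine le_trans (Nat.card_le_card_of_surjective node fun x => ?_) (le_of_eq (Nat.card_fin _))
    obtain ⟨k, rfl⟩ := QuotientGroup.mk_surjective x
    have h0 : ((1 : K) : K ⧸ L) ∈ Set.range node := ⟨0, Cert.node_zero _ _ _⟩
    have h := hinv k.1 k.2 _ h0
    rw [show (⟨k.1, k.2⟩ : K) • ((1 : K) : K ⧸ L) = (k : K ⧸ L) by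
      show ((k * 1 : K) : K ⧸ L) = _; rw [mul_one]] at h
    exact h
  have hK : Nat.card K ≤ 175560 := by
    rw [← card_mul_index L, Subgroup.index]
    exact le_trans (Nat.mul_le_mul hLcard hidx) (by norm_num)
  let p : K →* G := (MonoidHom.fst G G').comp K.subtype
  let p' : K →* G' := (MonoidHom.snd G G').comp K.subtype
  have hp : Function.Surjective p := MonoidHom.range_eq_top.mp (top_le_iff.mp (by
    rw [← H.tGen_generate hb, closure_le]
    rintro _ ⟨g, rfl⟩
    exact ⟨⟨P g, subset_closure ⟨g, rfl⟩⟩, rfl⟩))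
  have hp' : Function.Surjective p' := MonoidHom.range_eq_top.mp (top_le_iff.mp (by
    rw [← H'.tGen_generate hb', closure_le]
    rintro _ ⟨g, rfl⟩
    exact ⟨⟨P g, subset_closure ⟨g, rfl⟩⟩, rfl⟩))
  exact ⟨(MulEquiv.ofBijective p (hp.bijective_of_nat_card_le (H.order ▸ hK))).symm.trans
    (MulEquiv.ofBijective p' (hp'.bijective_of_nat_card_le (H'.order ▸ hK)))⟩

end Cfsg.Agent.JankoUnique
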