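/-
Janko's first group is determined by the centraliser of a 2-central involution.
Main results: `nonempty_mulEquiv`, `isoJ1`.
-/
import Cfsg.Agent.Lib.JankoUnique.Unique
import Cfsg.Agent.Lib.JankoOneOrder.Main
import Cfsg.Agent.Lib.JankoOne.Simple
import Cfsg.Agent.Lib.JankoOne.Centralizer

set_option autoImplicit false

namespace Cfsg.Agent.JankoUnique

open Cfsg Subgroup JankoOneOrder

variable {G : Type*} [Group G] [Finite G] [IsSimpleGroup G] {t : G}

theorem hyp_of_twoCentral (ht : IsTwoCentralInvolution t) (e : centralizer ({t} : Set G) ≃* Mdl) :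
    Hyp G t where
  order := card_eq ht e
  invol := (localData ht e).invol
  seven := by
    obtain ⟨a, P, h8, h2, h7, h1, hc, -, -, hn⟩ := (localData ht e).seven
    exact ⟨a, P, h8, h2, h7, h1, hc, hn⟩
  ord := ht.1
  model := ⟨e⟩

theorem nonempty_mulEquiv (ht : IsTwoCentralInvolution t) (e : centralizer ({t} : Set G) ≃* Mdl)
    {H : Type*} [Group H] [Finite H] [IsSimpleGroup H] {u : H} (hu : IsTwoCentralInvolution u)
    (f : centralizer ({u} : Set H) ≃* Mdl) : Nonempty (G ≃* H) :=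
  (hyp_of_twoCentral ht e).nonempty_mulEquiv (hyp_of_twoCentral hu f)

theorem j1_twoCentral : ∃ t : ↥Cfsg.Spor.J1, IsTwoCentralInvolution t ∧
    Nonempty (centralizer ({t} : Set ↥Cfsg.Spor.J1) ≃* Mdl) := by
  have : Fact (Nat.Prime 2) := ⟨Nat.prime_two⟩
  obtain ⟨t, ht, ⟨e⟩⟩ := JankoOne.exists_involution_centralizer
  refine ⟨t, ⟨ht, ?_⟩, ⟨e⟩⟩
  set C := centralizer ({t} : Set ↥Cfsg.Spor.J1)
  have hC : Nat.card C = 120 := card_cent_t e
  have htC : t ∈ C := mem_centralizer_singleton_iff.mpr rfl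
  obtain ⟨P, hP⟩ := (IsPGroup.of_card (n := 1) (G := zpowers (⟨t, htC⟩ : C))
    (by rw [Nat.card_zpowers, orderOf_mk, ht, pow_one])).exists_le_sylow
  have hP8 : Nat.card (P : Subgroup C) = 8 := by
    rw [P.card_eq_multiplicity, hC, Nat.factorization_def _ Nat.prime_two,
      show (120 : ℕ) = 2 ^ 3 * 15 by norm_num, padicValNat.mul (by norm_num) (by norm_num),
      padicValNat.prime_pow, padicValNat.eq_zero_of_not_dvd (by norm_num : ¬ 2 ∣ 15)]
    norm_num
  let Q : Subgroup ↥Cfsg.Spor.J1 := (P : Subgroup C).map C.subtype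
  have hQ : Nat.card Q = 8 := by
    rw [← hP8]
    exact Nat.card_congr ((P : Subgroup C).equivMapOfInjective _ C.subtype_injective).toEquiv.symm
  refine ⟨Sylow.ofCard Q ?_, mem_map.mpr ⟨⟨t, htC⟩, hP (mem_zpowers _), rfl⟩, fun x hx => ?_⟩
  · rw [hQ, JankoOne.natCard_j1, Nat.factorization_def _ Nat.prime_two,
      show (175560 : ℕ) = 2 ^ 3 * 21945 by norm_num, padicValNat.mul (by norm_num) (by norm_num),
      padicValNat.prime_pow, padicValNat.eq_zero_of_not_dvd (by norm_num : ¬ 2 ∣ 21945)]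
    norm_num
  · obtain ⟨c, -, rfl⟩ := mem_map.mp (show x ∈ Q from hx)
    exact mem_centralizer_singleton_iff.mp c.2

theorem isoJ1 (ht : IsTwoCentralInvolution t) (e : centralizer ({t} : Set G) ≃* Mdl) : Cfsg.Spor.IsoJ1 G := by
  have := JankoOne.isSimpleGroup_j1
  obtain ⟨u, hu, ⟨f⟩⟩ := j1_twoCentral
  exact nonempty_mulEquiv ht e hu f

end Cfsg.Agent.JankoUnique
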